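/-
A unitary group containing the tensor product of special unitary groups of dimensions two and three: root
elements with scalar coefficients.
-/
import Cfsg.Agent.Lib.Geo.UnitMaximal

set_option autoImplicit false
set_option linter.unusedSectionVars false

namespace CfsgLib.Geo.UnitTensorTwo

open CfsgLib.Classical CfsgLib.Classical.Herm CfsgLib.Geo.UnitMax

variable {F : Type*} [Field F] {U : Type*} [AddCommGroup U] [Module F U] {σ : F →+* F}
  {g : U →ₛₗ[σ] U →ₗ[F] F} {H : U × U →ₛₗ[σ] U × U →ₗ[F] F}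

/-- A proper overgroup of the tensor product, the space being two copies of the three-dimensional one. -/
structure Ctx (g : U →ₛₗ[σ] U →ₗ[F] F) (H : U × U →ₛₗ[σ] U × U →ₗ[F] F) (ζ : F) (K : Subgroup (HU H)) :
    Prop where
  hg : IsHerm g
  hH : IsHerm H
  dim : Module.finrank F U = 3
  big : 3 ≤ Nat.card (fixedSub σ)
  ne : ζ ≠ 0
  skew : ζ + σ ζ = 0
  form : ∀ a b c d : U, H (a, b) (c, d) = ζ * (g a d - g b c)
  sl : ∀ a b c d : F, σ a = a → σ b = b → σ c = c → σ d = d → a * d - b * c = 1 →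
    ∃ k ∈ K, ∀ A B : U, (k : HU H).1 (A, B) = (a • A + b • B, c • A + d • B)
  dia : ∀ τ ∈ HSU g, ∃ k ∈ K, ∀ A B : U, (k : HU H).1 (A, B) = (τ.1 A, τ.1 B)
  thin : ¬ HSU H ≤ K

/-- The map of an element of the unipotent radical at `v`. -/
def el (g : U →ₛₗ[σ] U →ₗ[F] F) (v z : U) (M R T : Matrix (Fin 2) (Fin 2) F) (Y : U × U) : U × U :=
  (Y.1 + (M 0 0 * g v Y.1 + M 0 1 * g v Y.2) • z +
      (T 0 0 * g v Y.1 + T 0 1 * g v Y.2 + R 0 0 * g z Y.1 + R 0 1 * g z Y.2) • v,
    Y.2 + (M 1 0 * g v Y.1 + M 1 1 * g v Y.2) • z +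
      (T 1 0 * g v Y.1 + T 1 1 * g v Y.2 + R 1 0 * g z Y.1 + R 1 1 * g z Y.2) • v)

/-- The map of a root element at the line of `v`. -/
def lr (g : U →ₛₗ[σ] U →ₗ[F] F) (v : U) (T : Matrix (Fin 2) (Fin 2) F) (Y : U × U) : U × U :=
  (Y.1 + (T 0 0 * g v Y.1 + T 0 1 * g v Y.2) • v, Y.2 + (T 1 0 * g v Y.1 + T 1 1 * g v Y.2) • v)

theorem el_lr (v z : U) (T : Matrix (Fin 2) (Fin 2) F) (Y : U × U) : el g v z 0 0 T Y = lr g v T Y := by
  simp [el, lr]

theorem lr_lr {v : U} (hv : g v v = 0) (T T' : Matrix (Fin 2) (Fin 2) F) (Y : U × U) :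
    lr g v T (lr g v T' Y) = lr g v (T + T') Y := by
  simp only [lr, map_add, smul_right, hv, mul_zero, add_zero, Matrix.add_apply, Prod.mk.injEq]
  constructor <;> module

theorem el_el {v z : U} (hv : g v v = 0) (hvz : g v z = 0) (hzv : g z v = 0)
    (M R T M' R' T' : Matrix (Fin 2) (Fin 2) F) (Y : U × U) :
    el g v z M R T (el g v z M' R' T' Y) = el g v z (M + M') (R + R') (T + T' + g z z • (R * M')) Y := by
  simp only [el, map_add, smul_right, hv, hvz, hzv, mul_zero, add_zero, zero_add, Matrix.add_apply, Matrix.smul_apply,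
    Matrix.mul_apply, Fin.sum_univ_two, smul_eq_mul, Prod.mk.injEq]
  constructor <;> module

/-- The quotient of two elements, read off on the image of one. -/
theorem quot_apply {a b : HU H} {φ : U × U → U × U} (h : ∀ Y, a.1 Y = φ (b.1 Y)) (Y : U × U) :
    (a * b⁻¹).1 Y = φ Y := by
  obtain ⟨Z, rfl⟩ := b.1.surjective Y
  show a.1 (b.1.symm (b.1 Z)) = _
  rw [LinearEquiv.symm_apply_apply, h]

theorem inv_apply {a : HU H} {Y Z : U × U} (h : a.1 Y = Z) : (a⁻¹).1 Z = Y := by
  rw [← h]
  exact a.1.symm_apply_apply Y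

theorem mul_apply (a b : HU H) (Y : U × U) : (a * b).1 Y = a.1 (b.1 Y) := rfl

namespace Ctx

variable {ζ : F} {K : Subgroup (HU H)} (X : Ctx g H ζ K)
include X

theorem finite_dimensional : FiniteDimensional F U := FiniteDimensional.of_finrank_pos (by rw [X.dim]; norm_num)

theorem three : 3 ≤ Module.finrank F U := X.dim.ge

theorem six [FiniteDimensional F U] : Module.finrank F (U × U) = 6 := by rw [Module.finrank_prod, X.dim]

theorem sζ : σ ζ = -ζ := eq_neg_of_add_eq_zero_right X.skew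

theorem symm' (a b : U) : σ (g a b) = g b a := X.hg.symm a b

variable [Finite F]

/-- Real scalars other than zero and one. -/
theorem exists_real : ∃ r : F, σ r = r ∧ r ≠ 0 ∧ r ≠ 1 := by
  classical
  haveI : Fintype (fixedSub σ) := Fintype.ofFinite _
  obtain ⟨r, -, hr⟩ := Finset.exists_mem_notMem_of_card_lt_card (s := ({0, 1} : Finset (fixedSub σ)))
    (t := Finset.univ) (by
      have := X.big
      rw [Nat.card_eq_fintype_card, ← Finset.card_univ] at this
      exact lt_of_le_of_lt Finset.card_le_two (by omega))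
  simp only [Finset.mem_insert, Finset.mem_singleton, not_or] at hr
  exact ⟨r, r.2, fun h => hr.1 (Subtype.ext h), fun h => hr.2 (Subtype.ext h)⟩

/-- A scalar of norm one which is not of order at most two. -/
theorem exists_norm_one : ∃ ω : F, ω * σ ω = 1 ∧ ω ^ 2 ≠ 1 := by
  classical
  by_contra! hall
  haveI : Fintype F := Fintype.ofFinite F
  have h1 := X.hg.invol.card_norm_fibre (μ := (1 : F)) one_ne_zero (map_one σ)
  have h2 : Nat.card {x : F // x * σ x = 1} ≤ Nat.card (({1, -1} : Finset F) : Type _) :=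
    Nat.card_le_card_of_injective (fun x => ⟨x.1, by
      rcases mul_self_eq_one_iff.1 ((sq (x.1)).symm.trans (hall x.1 x.2)) with h | h <;> simp [h]⟩)
      fun a b h => Subtype.ext (congrArg (fun y : (({1, -1} : Finset F) : Type _) => (y : F)) h)
  rw [h1, Nat.card_eq_finsetCard] at h2
  have := X.big
  have : ({1, -1} : Finset F).card ≤ 2 := Finset.card_le_two
  omega

/-- A scalar of norm one whose cube is not one. -/
theorem exists_norm_one_cube : ∃ ω : F, ω * σ ω = 1 ∧ ω ^ 3 ≠ 1 := by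
  classical
  by_contra! hall
  haveI : Fintype F := Fintype.ofFinite F
  have h1 := X.hg.invol.card_norm_fibre (μ := (1 : F)) one_ne_zero (map_one σ)
  set R := (Polynomial.nthRootsFinset 3 (1 : F))
  have h2 : Nat.card {x : F // x * σ x = 1} ≤ Nat.card (R : Type _) :=
    Nat.card_le_card_of_injective (fun x => ⟨x.1, (Polynomial.mem_nthRootsFinset (by norm_num) _).2 (hall x.1 x.2)⟩)
      fun a b h => Subtype.ext (congrArg (fun y : (R : Type _) => (y : F)) h)
  rw [h1, Nat.card_eq_finsetCard] at h2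
  have : R.card ≤ 3 := by
    simp only [R, Polynomial.nthRootsFinset_def]
    exact (Multiset.toFinset_card_le _).trans (Polynomial.card_nthRoots 3 1)
  have := X.big
  omega

variable [FiniteDimensional F U]

/-- A hyperbolic pair and a third vector orthogonal to both. -/
theorem exists_frame {v : U} (hv0 : v ≠ 0) (hv : g v v = 0) :
    ∃ v' z : U, g v v' = 1 ∧ g v' v = 1 ∧ g v' v' = 0 ∧ g v z = 0 ∧ g z v = 0 ∧ g v' z = 0 ∧ g z v' = 0 ∧
      g z z ≠ 0 ∧ ∀ Y : U, Y = g v' Y • v + g v Y • v' + (g z Y / g z z) • z := by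
  obtain ⟨v', h1, h2⟩ := X.hg.exists_isotropic_partner hv0 hv
  have h1' : g v' v = 1 := by rw [← X.symm', h1, map_one]
  have hd := X.hg.hyperbolic_disc (f := v') hv h1
  have hW := X.hg.pair_nondeg hd
  have hfr := X.hg.finrank_orth hW
  rw [X.hg.pair_finrank hd, X.dim] at hfr
  obtain ⟨z, hz, hzz⟩ := X.hg.exists_norm_in (X.hg.orth_nondeg hW) (by omega) (map_one σ)
  have hvz : g v z = 0 := X.hg.mem_orth.1 hz v (Submodule.subset_span (Set.mem_insert _ _))
  have hvz' : g v' z = 0 := X.hg.mem_orth.1 hz v' (Submodule.subset_span (Set.mem_insert_of_mem _ rfl))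
  have hzv := X.hg.eq_zero_symm hvz
  have hzv' := X.hg.eq_zero_symm hvz'
  refine ⟨v', z, h1, h1', h2, hvz, hzv, hvz', hzv', by rw [hzz]; exact one_ne_zero, fun Y => ?_⟩
  let L : U →ₗ[F] F × F × F := (g v).prod ((g v').prod (g z))
  have hsurj : Function.Surjective L := fun ⟨a, b, c⟩ => ⟨a • v' + b • v + c • z, by
    simp [L, smul_right, hv, h1, h1', h2, hvz, hvz', hzv, hzv', hzz]⟩
  have hinj : Function.Injective L := (LinearMap.injective_iff_surjective_of_finrank_eq_finrank (by
    rw [X.dim]; simp [Module.finrank_prod])).2 hsurj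
  refine hinj ?_
  simp [L, smul_right, hv, h1, h1', h2, hvz, hvz', hzv, hzv', hzz]

/-- The transvection of the three-dimensional space inside the group. -/
theorem dia_tr {v : U} (hv : g v v = 0) {c : F} (hc : c + σ c = 0) :
    ∃ k ∈ K, ∀ A B : U, (k : HU H).1 (A, B) = (A + (c * g v A) • v, B + (c * g v B) • v) := by
  obtain ⟨k, hk, e⟩ := X.dia (X.hg.tr hv hc) (X.hg.det_tr hv hc)
  exact ⟨k, hk, fun A B => by rw [e, X.hg.tr_apply, X.hg.tr_apply]⟩

/-- Moving isotropic vectors. -/
theorem exists_move {v w : U} (hv0 : v ≠ 0) (hw0 : w ≠ 0) (hv : g v v = 0) (hw : g w w = 0) :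
    ∃ τ : HU g, τ.1 v = w ∧ ∃ k ∈ K, ∀ A B : U, (k : HU H).1 (A, B) = (τ.1 A, τ.1 B) := by
  obtain ⟨τ, hτ, e⟩ := X.hg.transitive_isotropic X.three hv0 hw0 hv hw
  exact ⟨τ, e, X.dia τ (X.hg.trGroup_le hτ)⟩

/-! ### Transvections -/

/-- No transvection with a tensor centre lies in the group. -/
theorem tr_absurd {v : U} (hv0 : v ≠ 0) (hv : g v v = 0) {r : F} (hr0 : r ≠ 0) {k : HU H} (hk : k ∈ K)
    (e : ∀ A B : U, k.1 (A, B) = (A + (r * g v B) • v, B)) : False := by
  have hgi := X.hg.invol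
  obtain ⟨v', z, h1, h1', h2, hvz, hzv, hvz', hzv', hn, -⟩ := X.exists_frame hv0 hv
  have hr : σ r = r := by
    have := HU.map_eq k (0, v') (0, v')
    rw [e, X.form, X.form] at this
    simp [smul_left, smul_right, h1, h1', mul_eq_zero, X.ne, sub_eq_zero] at this
    exact this
  have hζ := X.sζ
  -- all coefficients
  have hS : ∀ s : F, σ s = s → ∃ k ∈ K, ∀ A B : U, (k : HU H).1 (A, B) = (A + (s * g v B) • v, B) := by
    let S : AddSubgroup F :=
      { carrier := {s | ∃ k ∈ K, ∀ A B : U, (k : HU H).1 (A, B) = (A + (s * g v B) • v, B)}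
        zero_mem' := ⟨1, K.one_mem, fun A B => by simp⟩
        add_mem' := by
          rintro s s' ⟨k, hk, ek⟩ ⟨k', hk', ek'⟩
          refine ⟨k * k', K.mul_mem hk hk', fun A B => ?_⟩
          rw [mul_apply, ek', ek]
          simp only [Prod.mk.injEq, and_true]
          module
        neg_mem' := by
          rintro s ⟨k, hk, ek⟩
          refine ⟨k⁻¹, K.inv_mem hk, fun A B => inv_apply ?_⟩
          rw [ek]
          simp only [Prod.mk.injEq, and_true]
          module }
    have hsq : ∀ t : F, σ t = t → t * t * r ∈ S := by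
      intro t ht
      by_cases ht0 : t = 0
      · rw [ht0]; simp
      obtain ⟨m, hm, em⟩ := X.sl t 0 0 t⁻¹ ht (map_zero σ) (map_zero σ) (by rw [map_inv₀, ht])
        (by rw [mul_inv_cancel₀ ht0]; ring)
      refine ⟨m * k * m⁻¹, K.mul_mem (K.mul_mem hm hk) (K.inv_mem hm), fun A B => ?_⟩
      refine quot_apply (φ := fun Y => (Y.1 + (t * t * r * g v Y.2) • v, Y.2)) (fun Y => ?_) (A, B)
      obtain ⟨A, B⟩ := Y
      rw [mul_apply, e, em, em]
      simp only [Prod.mk.injEq, zero_smul, add_zero, zero_add, smul_right, smul_add, smul_smul]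
      constructor
      · match_scalars <;> field_simp
      · match_scalars <;> simp
    intro s hs
    have hd : ∀ a : F, σ a = a → ∃ p p' : F, σ p = p ∧ σ p' = p' ∧ a = p * p - p' * p' ∨ ∃ p, σ p = p ∧ a = p * p := by
      intro a ha
      by_cases h20 : (2 : F) = 0
      · have : CharP F 2 := CharTwo.of_one_ne_zero_of_two_eq_zero one_ne_zero h20
        obtain ⟨p, hp⟩ := (bijective_frobenius F 2).2 a
        rw [frobenius_def, sq] at hp
        refine ⟨0, 0, Or.inr ⟨p, ?_, hp.symm⟩⟩
        apply (bijective_frobenius F 2).1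
        rw [frobenius_def, frobenius_def, sq, sq, ← map_mul, hp, ha]
      · refine ⟨(a + 1) / 2, (a - 1) / 2, Or.inl ⟨by simp [ha, map_ofNat], by simp [ha, map_ofNat], ?_⟩⟩
        field_simp
        ring
    have hmem : s ∈ S := by
      obtain ⟨p, p', h | ⟨p, hp, h⟩⟩ := hd (s / r) (by rw [map_div₀, hs, hr])
      · obtain ⟨hp, hp', h⟩ := h
        have := S.sub_mem (hsq p hp) (hsq p' hp')
        rwa [← sub_mul, ← h, div_mul_cancel₀ _ hr0] at this
      · have := hsq p hp
        rwa [← h, div_mul_cancel₀ _ hr0] at this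
    exact hmem
  have htr : HasTr X.hH K (v, 0) := by
    intro hvv c hc
    obtain ⟨k', hk', ek'⟩ := hS (c * ζ) (by rw [map_mul, hζ, eq_neg_of_add_eq_zero_right hc]; ring)
    convert hk'
    refine Subtype.ext (LinearEquiv.ext fun Y => ?_)
    obtain ⟨A, B⟩ := Y
    rw [X.hH.tr_apply, ek', X.form]
    simp [mul_assoc]
  -- isotropic tensor centres
  have hiso : ∀ w, g w w = 0 → HasTr X.hH K (w, 0) ∧ HasTr X.hH K ((0 : U), w) := by
    intro w hw
    have h1 : HasTr X.hH K (w, 0) := by
      by_cases hw0 : w = 0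
      · subst hw0
        intro hvv c _
        convert K.one_mem
        refine Subtype.ext (LinearEquiv.ext fun Y => ?_)
        rw [X.hH.tr_apply, show ((0 : U), (0 : U)) = 0 from rfl]
        simp
      obtain ⟨τ, hτ, m, hm, em⟩ := X.exists_move hv0 hw0 hv hw
      have := htr.conj X.hH hm
      rwa [em, hτ, map_zero] at this
    refine ⟨h1, ?_⟩
    obtain ⟨m, hm, em⟩ := X.sl 0 (-1) 1 0 (map_zero σ) (by rw [map_neg, map_one]) (map_one σ) (map_zero σ) (by ring)
    have := h1.conj X.hH hm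
    rw [em] at this
    simpa using this
  -- a move by a transvection
  have hmove : ∀ {x u : U × U}, HasTr X.hH K x → HasTr X.hH K u → ∀ (hu : H u u = 0) (c : F), c + σ c = 0 →
      HasTr X.hH K (x + (c * H u x) • u) := by
    intro x u hx hu huu c hc
    have := hx.conj X.hH (hu huu c hc)
    rwa [X.hH.tr_apply] at this
  -- one anisotropic tensor centre
  obtain ⟨w, hw, hwT⟩ : ∃ w : U, g w w ≠ 0 ∧ HasTr X.hH K (w, 0) := by
    obtain ⟨a, ha⟩ := hgi.exists_trace_eq (μ := -g z z) (by rw [map_neg, X.hg.self_fixed])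
    set w₂ := a • v + v' + z with hw₂
    have hww₂ : g w₂ w₂ = 0 := by
      simp only [hw₂, map_add, LinearMap.add_apply, smul_left, smul_right, hv, h1, h1', h2, hvz, hzv, hvz', hzv']
      linear_combination ha
    have hw₂v : g w₂ v = 1 := by simp [hw₂, smul_left, hv, h1', hzv]
    have hw₂v' : g w₂ v' = σ a := by simp [hw₂, smul_left, h1, h2, hzv']
    have hvw₂ : g v w₂ = 1 := by rw [← X.symm', hw₂v, map_one]
    have hv'w₂ : g v' w₂ = a := by rw [← X.symm', hw₂v', hgi.invol]
    obtain ⟨c, hc0, hc⟩ := X.hH.exists_skew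
    have hσc := eq_neg_of_add_eq_zero_right hc
    set lam := -(c * ζ) with hlam
    have hlam0 : lam ≠ 0 := neg_ne_zero.2 (mul_ne_zero hc0 X.ne)
    have hlamr : σ lam = lam := by rw [hlam, map_neg, map_mul, hσc, hζ]; ring
    have e1 : H ((0 : U), v') ((0 : U), v') = 0 := by rw [X.form]; simp
    have hx1 : HasTr X.hH K (v, lam • v') := by
      have := hmove (hiso v hv).1 (hiso v' h2).2 e1 c hc
      rw [X.form] at this
      simpa [hlam, h1'] using this
    -- the coefficient
    obtain ⟨κ, hκr, hκ0, hκ1⟩ : ∃ κ : F, σ κ = κ ∧ κ ≠ 0 ∧ 1 + κ * (σ a * a) ≠ 0 := by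
      obtain ⟨r', hr', hr0', hr1'⟩ := X.exists_real
      by_cases hcase : 1 + 1 * (σ a * a) = 0
      · refine ⟨r', hr', hr0', fun h0 => hr1' ?_⟩
        have hN : σ a * a = -1 := by linear_combination hcase
        rw [hN] at h0
        linear_combination -h0
      · exact ⟨1, map_one σ, one_ne_zero, hcase⟩
    have hc2 : κ / (ζ * lam) + σ (κ / (ζ * lam)) = 0 := by
      rw [map_div₀, map_mul, hκr, hζ, hlamr, neg_mul, div_neg, add_neg_cancel]
    have e2 : H (w₂, (0 : U)) (w₂, (0 : U)) = 0 := by rw [X.form]; simp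
    have hx2 : HasTr X.hH K (v + (κ * σ a) • w₂, lam • v') := by
      have := hmove hx1 (hiso w₂ hww₂).1 e2 _ hc2
      rw [X.form, smul_right, hw₂v', LinearMap.map_zero₂ g v, sub_zero] at this
      convert this using 1
      simp only [Prod.smul_mk, Prod.mk_add_mk, smul_zero, add_zero]
      congr 3
      field_simp [X.ne]
    set w := v + (κ * σ a) • w₂ with hw
    have hgw : g v' w = 1 + κ * (σ a * a) := by
      rw [hw, map_add, smul_right, h1', hv'w₂]; ring
    have hgwr : σ (g v' w) = g v' w := by rw [hgw, map_add, map_one, map_mul, map_mul, hgi.invol, hκr]; ring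
    refine ⟨w, ?_, ?_⟩
    · intro h0
      rw [hw] at h0
      simp only [map_add, LinearMap.add_apply, smul_left, smul_right, hv, hww₂, hvw₂, hw₂v, map_mul, hκr,
        hgi.invol] at h0
      have : κ * g z z = 0 := by linear_combination -h0 + κ * ha
      exact mul_ne_zero hκ0 hn this
    · have hc3 : lam / (ζ * g v' w) + σ (lam / (ζ * g v' w)) = 0 := by
        rw [map_div₀, map_mul, hlamr, hgwr, hζ, neg_mul, div_neg, add_neg_cancel]
      have hgw0 : g v' w ≠ 0 := by rw [hgw]; exact hκ1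
      have := hmove hx2 (hiso v' h2).2 e1 _ hc3
      rw [X.form, LinearMap.map_zero₂ g (lam • v')] at this
      convert this using 1
      simp only [Prod.smul_mk, Prod.mk_add_mk, smul_zero, add_zero, Prod.mk.injEq, true_and]
      rw [← add_smul]
      refine (smul_eq_zero.2 (Or.inl ?_)).symm
      field_simp [X.ne]
      ring
  -- all tensor centres
  have hany : ∀ u : U, HasTr X.hH K (u, 0) := by
    intro u
    by_cases huu : g u u = 0
    · exact (hiso u huu).1
    obtain ⟨p, hp⟩ := hgi.exists_norm_eq (μ := (g w w)⁻¹) (by rw [map_inv₀, X.hg.self_fixed])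
    obtain ⟨p', hp'⟩ := hgi.exists_norm_eq (μ := (g u u)⁻¹) (by rw [map_inv₀, X.hg.self_fixed])
    have hp0 : p ≠ 0 := fun h0 => hw (inv_eq_zero.1 (by rw [← hp, h0, zero_mul]))
    have hp0' : p' ≠ 0 := fun h0 => huu (inv_eq_zero.1 (by rw [← hp', h0, zero_mul]))
    obtain ⟨τ, hτ, hte⟩ := X.hg.transitive_norm_one X.three (fun _ => by have := X.big; omega) (x := p • w)
      (y := p' • u) (by rw [IsHerm.smul_self, hp, inv_mul_cancel₀ hw])
      (by rw [IsHerm.smul_self, hp', inv_mul_cancel₀ huu])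
    obtain ⟨m, hm, em⟩ := X.dia τ (X.hg.trGroup_le hτ)
    have h1 := hwT.conj X.hH hm
    rw [em, map_zero] at h1
    have h2 : τ.1 w = (p⁻¹ * p') • u := by
      rw [mul_smul, ← hte, map_smul, inv_smul_smul₀ hp0]
    rw [h2, show (((p⁻¹ * p') • u, (0 : U)) : U × U) = (p⁻¹ * p') • (u, (0 : U)) by simp] at h1
    exact HasTr.of_smul X.hH (mul_ne_zero (inv_ne_zero hp0) hp0') h1
  -- all isotropic centres
  have hall : ∀ x : U × U, HasTr X.hH K x := by
    have hback : ∀ {x u : U × U} (hu : H u u = 0) {c : F}, c + σ c = 0 → HasTr X.hH K u →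
        HasTr X.hH K (x + (c * H u x) • u) → HasTr X.hH K x := by
      intro x u hu c hc hut hxt
      have := hxt.conj X.hH (K.inv_mem (hut hu c hc))
      rwa [inv_apply (a := X.hH.tr hu hc) (X.hH.tr_apply hu hc x)] at this
    have hB : ∀ B : U, HasTr X.hH K ((0 : U), B) := fun B => by
      obtain ⟨m, hm, em⟩ := X.sl 0 (-1) 1 0 (map_zero σ) (by rw [map_neg, map_one]) (map_one σ) (map_zero σ) (by ring)
      have := (hany B).conj X.hH hm
      rw [em] at this
      simpa using this
    have hu0 : ∀ u : U, H (u, (0 : U)) (u, (0 : U)) = 0 := fun u => by rw [X.form]; simp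
    rintro ⟨A, B⟩ hxx c hc
    have hAB : g A B = g B A := by
      have h0 := hxx
      rw [X.form, mul_eq_zero, sub_eq_zero] at h0
      exact h0.resolve_left X.ne
    have key : ∀ A : U, g A B ≠ 0 → σ (g A B) = g A B → HasTr X.hH K (A, B) := by
      intro A h0 hreal
      refine hback (u := (A, (0 : U))) (hu0 A) (c := -(ζ * g A B)⁻¹) ?_ (hany A) ?_
      · rw [map_neg, map_inv₀, map_mul, hζ, hreal, neg_mul, inv_neg, neg_neg, neg_add_cancel]
      · convert hB B using 1
        rw [X.form, LinearMap.map_zero₂ g A, sub_zero]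
        simp only [Prod.smul_mk, Prod.mk_add_mk, smul_zero, add_zero, Prod.mk.injEq, and_true]
        have : -(ζ * g A B)⁻¹ * (ζ * g A B) = -1 := by rw [neg_mul, inv_mul_cancel₀ (mul_ne_zero X.ne h0)]
        rw [this, neg_one_smul, add_neg_cancel]
    by_cases h0 : g A B = 0
    · by_cases hB0 : B = 0
      · subst hB0
        exact hany A hxx c hc
      obtain ⟨u, hu⟩ : ∃ u, g u B ≠ 0 := by
        by_contra! hz
        exact hB0 (X.hg.nondeg B fun y => X.hg.eq_zero_symm (hz y))
      obtain ⟨c', hc0', hc'⟩ := X.hH.exists_skew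
      refine hback (u := (u, (0 : U))) (hu0 u) hc' (hany u) ?_ hxx c hc
      rw [X.form, LinearMap.map_zero₂ g A, sub_zero]
      simp only [Prod.smul_mk, Prod.mk_add_mk, smul_zero, add_zero]
      have e : g (A + (c' * (ζ * g u B)) • u) B = c' * ζ * (σ (g u B) * g u B) := by
        rw [add_left, smul_left, h0, map_mul, map_mul, hζ, eq_neg_of_add_eq_zero_right hc']; ring
      refine key _ ?_ ?_
      · rw [e]
        exact mul_ne_zero (mul_ne_zero hc0' X.ne) (mul_ne_zero (fun h' => hu (IsInvol.apply_eq_zero_iff.1 h')) hu)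
      · rw [e, map_mul, map_mul, map_mul, hgi.invol, hζ, eq_neg_of_add_eq_zero_right hc']; ring
    · exact key A h0 (by rw [X.symm', hAB]) hxx c hc
  exact X.thin (le_of_hasTr X.hH (by rw [X.six]; omega) hall)

end Ctx

end CfsgLib.Geo.UnitTensorTwo
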