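/-
Root elements with scalar coefficients, and the stabiliser of a totally isotropic half.
-/
import Cfsg.Agent.Lib.Geo.UnitTensorTwo.Basic

set_option autoImplicit false
set_option linter.unusedSectionVars false

namespace CfsgLib.Geo.UnitTensorTwo

open CfsgLib.Classical CfsgLib.Classical.Herm CfsgLib.Geo.UnitMax

variable {F : Type*} [Field F] {U : Type*} [AddCommGroup U] [Module F U] {σ : F →+* F}
  {g : U →ₛₗ[σ] U →ₗ[F] F} {H : U × U →ₛₗ[σ] U × U →ₗ[F] F}

/-- The element is a tensor product of two maps. -/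
def Kr (k : HU H) : Prop :=
  ∃ (Φ : U →ₗ[F] U) (a b c d : F), ∀ A B : U, k.1 (A, B) = (a • Φ A + b • Φ B, c • Φ A + d • Φ B)

/-- The element stabilises the first half. -/
def Stab (k : HU H) : Prop := ∀ A : U, (k.1 (A, 0)).2 = 0

theorem Kr.stab {k : HU H} (hk : Kr k) {u : U} (hu : u ≠ 0) (h : (k.1 (u, 0)).2 = 0) : Stab k := by
  obtain ⟨Φ, a, b, c, d, e⟩ := hk
  rw [e] at h
  simp only [map_zero, smul_zero, add_zero, smul_eq_zero] at h
  rcases h with h | h
  · intro A; rw [e, h]; simp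
  · exfalso
    refine hu ?_
    have e1 : k.1 (u, 0) = 0 := by rw [e, h]; simp
    simpa using (LinearEquiv.map_eq_zero_iff _).1 e1

variable [Finite F] [FiniteDimensional F U]

namespace Ctx

variable {ζ : F} {K : Subgroup (HU H)} (X : Ctx g H ζ K)
include X

/-- Real numbers are differences of two squares of real numbers. -/
theorem sq_sub_sq {a : F} (ha : σ a = a) : ∃ p p' : F, σ p = p ∧ σ p' = p' ∧ a = p * p - p' * p' := by
  by_cases h20 : (2 : F) = 0
  · have : CharP F 2 := CharTwo.of_one_ne_zero_of_two_eq_zero one_ne_zero h20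
    obtain ⟨p, hp⟩ := (bijective_frobenius F 2).2 a
    rw [frobenius_def, sq] at hp
    refine ⟨p, 0, ?_, map_zero σ, by rw [mul_zero, sub_zero, hp]⟩
    apply (bijective_frobenius F 2).1
    rw [frobenius_def, frobenius_def, sq, sq, ← map_mul, hp, ha]
  · refine ⟨(a + 1) / 2, (a - 1) / 2, by simp [ha, map_ofNat], by simp [ha, map_ofNat], ?_⟩
    field_simp
    ring

/-- A self-adjoint map vanishing on isotropic vectors is a scalar. -/
theorem scalar_of_iso {θ : U →ₗ[F] U} (hθ : ∀ x y, g (θ x) y = g x (θ y))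
    (h0 : ∀ v, g v v = 0 → g v (θ v) = 0) : ∃ l : F, σ l = l ∧ ∀ B, θ B = l • B := by
  obtain ⟨v, hv0, hv⟩ := X.hg.exists_isotropic (by rw [X.dim]; norm_num)
  obtain ⟨v', z, h1, h1', h2, hvz, hzv, hvz', hzv', hn, hdec⟩ := X.exists_frame hv0 hv
  have hgi := X.hg.invol
  have hP : ∀ x y, σ (g x (θ y)) = g y (θ x) := fun x y => by rw [X.symm', hθ]
  obtain ⟨t, ht0, ht⟩ := hgi.exists_skew
  set l := g v (θ v') with hl
  have hl' : g v' (θ v) = σ l := by rw [hl, hP]
  have hlr : σ l = l := by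
    have h := h0 (v + t • v') (by simp [smul_left, smul_right, hv, h1, h1', h2, ht])
    simp only [map_add, map_smul, LinearMap.add_apply, smul_left, smul_eq_mul, LinearMap.smul_apply, h0 v hv, h0 v' h2, ← hl, hl',
      ht] at h
    have : t * (l - σ l) = 0 := by linear_combination h
    exact (sub_eq_zero.1 ((mul_eq_zero.1 this).resolve_left ht0)).symm
  have hz : ∀ (x y : U), g x x = 0 → g y y = 0 → g x y = 1 → g x z = 0 → g y z = 0 → g x (θ y) = l →
      g y (θ z) = 0 ∧ ∀ (ρ s : F), s + σ s = -(ρ * σ ρ * g z z) →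
        (ρ * g x (θ z) + σ (ρ * g x (θ z))) + ρ * σ ρ * (g z (θ z) - l * g z z) = 0 := by
    intro x y hx hy hxy hxz hyz hxyl
    have hyx : g y x = 1 := by rw [← X.symm', hxy, map_one]
    have hzx := X.hg.eq_zero_symm hxz
    have hzy := X.hg.eq_zero_symm hyz
    have hyxl : g y (θ x) = l := by rw [← hP, hxyl, hlr]
    set a := g x (θ z)
    set b := g y (θ z)
    have key : ∀ (ρ s : F), s + σ s = -(ρ * σ ρ * g z z) →
        (ρ * a + σ (ρ * a)) + ρ * σ ρ * (g z (θ z) - l * g z z) + (ρ * σ s * b + σ (ρ * σ s * b)) = 0 := by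
      intro ρ s hs
      have hiso : g (x + ρ • z + s • y) (x + ρ • z + s • y) = 0 := by
        simp only [map_add, LinearMap.add_apply, smul_left, smul_right, hx, hy, hxy, hyx, hxz, hzx, hyz, hzy]
        linear_combination hs
      have h := h0 _ hiso
      simp only [map_add, map_smul, LinearMap.add_apply, smul_left, smul_eq_mul, LinearMap.smul_apply, h0 x hx, h0 y hy,
        hxyl, hyxl] at h
      rw [← hP x z, ← hP y z] at h
      simp only [map_mul, hgi.invol]
      linear_combination h - l * hs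
    have hb : b = 0 := by
      by_contra hb
      obtain ⟨w, hw⟩ := hgi.exists_trace_ne_zero
      set ρ := w / (σ t * b) with hρ
      obtain ⟨s, hs⟩ := hgi.exists_trace_eq (μ := -(ρ * σ ρ * g z z))
        (by rw [map_neg, map_mul, map_mul, hgi.invol, X.hg.self_fixed]; ring)
      have e1 := key ρ s hs
      have e2 := key ρ (s + t) (by rw [map_add, ht]; linear_combination hs)
      rw [map_add] at e2
      have hσt : σ t * b ≠ 0 := mul_ne_zero (fun h' => ht0 (IsInvol.apply_eq_zero_iff.1 h')) hb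
      have e3 : ρ * σ t * b = w := by rw [hρ, mul_assoc, div_mul_cancel₀ _ hσt]
      refine hw ?_
      rw [← e3]
      simp only [map_add, map_mul, hgi.invol] at e1 e2 ⊢
      linear_combination e2 - e1
    refine ⟨hb, fun ρ s hs => ?_⟩
    have := key ρ s hs
    rwa [hb, mul_zero, map_zero, add_zero, add_zero] at this
  obtain ⟨hb, hk⟩ := hz v v' hv h2 h1 hvz hvz' rfl
  obtain ⟨ha, -⟩ := hz v' v h2 hv h1' hvz' hvz (by rw [hl', hlr])
  obtain ⟨s, hs⟩ := hgi.exists_trace_eq (μ := -(1 * σ 1 * g z z))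
    (by rw [map_neg, map_mul, map_mul, hgi.invol, map_one, X.hg.self_fixed])
  have hzz : g z (θ z) = l * g z z := by
    have := hk 1 s hs
    rw [ha, mul_zero, map_zero, map_one] at this
    linear_combination this
  refine ⟨l, hlr, fun B => ?_⟩
  have e1 : θ v = l • v := by
    rw [hdec (θ v), h0 v hv, hl', hlr, ← hP, ha]
    simp
  have e2 : θ v' = l • v' := by
    rw [hdec (θ v'), h0 v' h2, ← hl, ← hP, hb]
    simp
  have e3 : θ z = l • z := by
    rw [hdec (θ z), ha, hb, hzz, mul_div_cancel_right₀ _ hn]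
    simp
  conv_lhs => rw [hdec B]
  conv_rhs => rw [hdec B]
  simp only [map_add, map_smul, e1, e2, e3]
  module

/-- Root elements at an isotropic line have scalar coefficients. -/
theorem root_scalar {v : U} (hv0 : v ≠ 0) (hv : g v v = 0) {T : Matrix (Fin 2) (Fin 2) F} {k : HU H} (hk : k ∈ K)
    (e : ∀ Y, k.1 Y = lr g v T Y) : T 1 0 = 0 ∧ T 0 1 = 0 ∧ T 0 0 = T 1 1 := by
  let P : Matrix (Fin 2) (Fin 2) F → Prop := fun T => ∃ k ∈ K, ∀ Y, (k : HU H).1 Y = lr g v T Y
  have hPadd : ∀ {T T'}, P T → P T' → P (T + T') := by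
    rintro T T' ⟨k, hk, e⟩ ⟨k', hk', e'⟩
    exact ⟨k * k', K.mul_mem hk hk', fun Y => by rw [mul_apply, e', e, lr_lr hv]⟩
  have hPneg : ∀ {T}, P T → P (-T) := by
    rintro T ⟨k, hk, e⟩
    refine ⟨k⁻¹, K.inv_mem hk, fun Y => inv_apply ?_⟩
    rw [e, lr_lr hv, add_neg_cancel]
    simp [lr]
  have hPsmul : ∀ {T} {s : F}, σ s = s → P T → P (s • T) := by
    rintro T s hs ⟨k, hk, e⟩
    by_cases hs0 : s = 0
    · exact ⟨1, K.one_mem, fun Y => by simp [hs0, lr]⟩
    obtain ⟨ρ, hρ⟩ := X.hg.invol.exists_norm_eq hs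
    have hρ0 : ρ ≠ 0 := fun h => hs0 (by rw [← hρ, h, zero_mul])
    obtain ⟨τ, hτ, m, hm, em⟩ := X.exists_move hv0 (smul_ne_zero hρ0 hv0) hv
      (by rw [IsHerm.smul_self, hv, mul_zero])
    refine ⟨m * k * m⁻¹, K.mul_mem (K.mul_mem hm hk) (K.inv_mem hm), fun Y => quot_apply (fun Z => ?_) Y⟩
    obtain ⟨A, B⟩ := Z
    have hg1 : ∀ A, g v (τ.1 A) * σ ρ = g v A := fun A => by
      rw [mul_comm, ← smul_left, ← hτ, HU.map_eq]
    rw [mul_apply, e, em]
    simp only [lr, em, map_add, map_smul, hτ, Matrix.smul_apply, smul_eq_mul, Prod.mk.injEq, ← hg1 A, ← hg1 B, ← hρ]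
    constructor <;> module
  have hPconj : ∀ {T T' : Matrix (Fin 2) (Fin 2) F} {a b c d : F}, σ a = a → σ b = b → σ c = c → σ d = d →
      a * d - b * c = 1 → P T → T' * !![a, b; c, d] = !![a, b; c, d] * T → P T' := by
    rintro T T' a b c d ha hb hc hd hdet ⟨k, hk, e⟩ hT
    obtain ⟨m, hm, em⟩ := X.sl a b c d ha hb hc hd hdet
    refine ⟨m * k * m⁻¹, K.mul_mem (K.mul_mem hm hk) (K.inv_mem hm), fun Y => quot_apply (fun Z => ?_) Y⟩
    obtain ⟨A, B⟩ := Z
    have e00 := congrFun (congrFun hT 0) 0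
    have e01 := congrFun (congrFun hT 0) 1
    have e10 := congrFun (congrFun hT 1) 0
    have e11 := congrFun (congrFun hT 1) 1
    simp [Matrix.mul_apply, Fin.sum_univ_two] at e00 e01 e10 e11
    rw [mul_apply, e, em]
    simp only [lr, em, map_add, map_smul, smul_eq_mul, Prod.mk.injEq]
    constructor
    · match_scalars <;> (try ring1)
      linear_combination (-(g v A)) * e00 - g v B * e01
    · match_scalars <;> (try ring1)
      linear_combination (-(g v A)) * e10 - g v B * e11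
  have h10 : ∀ {T}, P T → T 1 0 = 0 ∧ P !![0, T 1 1 - T 0 0; 0, 0] := by
    intro T hT
    have hD : ∀ t : F, σ t = t → P !![t * T 1 0, t * (T 1 1 - T 0 0) - t * t * T 1 0; 0, -(t * T 1 0)] := by
      intro t ht
      have h' := hPconj (T' := !![T 0 0 + t * T 1 0, T 0 1 + t * (T 1 1 - T 0 0) - t * t * T 1 0;
        T 1 0, T 1 1 - t * T 1 0]) (map_one σ) ht (map_zero σ) (map_one σ) (by ring) hT (by
          ext i j
          fin_cases i <;> fin_cases j <;> simp [Matrix.mul_apply, Fin.sum_univ_two] <;> ring)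
      have := hPadd h' (hPneg hT)
      convert this using 1
      ext i j
      fin_cases i <;> fin_cases j <;> simp <;> ring
    obtain ⟨r, hr, hr0, hr1⟩ := X.exists_real
    have h10 : T 1 0 = 0 := by
      by_contra hne
      obtain ⟨k, hk, e⟩ := hPadd (hD r hr) (hPneg (hPsmul hr (hD 1 (map_one σ))))
      refine X.tr_absurd hv0 hv (r := -((r * r - r) * T 1 0)) ?_ hk fun A B => ?_
      · rw [neg_ne_zero, show r * r - r = r * (r - 1) by ring]
        exact mul_ne_zero (mul_ne_zero hr0 (sub_ne_zero.2 hr1)) hne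
      · rw [e]
        simp only [lr, Matrix.add_apply, Matrix.neg_apply, Matrix.smul_apply, smul_eq_mul, Matrix.of_apply,
          Matrix.cons_val', Matrix.cons_val_zero, Matrix.cons_val_one, Matrix.empty_val', Matrix.cons_val_fin_one,
          Prod.mk.injEq]
        constructor <;> match_scalars <;> ring
    refine ⟨h10, ?_⟩
    have := hD 1 (map_one σ)
    simpa [h10] using this
  have hdiag : ∀ {T}, P T → T 0 0 = T 1 1 := by
    intro T hT
    by_contra hne
    obtain ⟨k, hk, e⟩ := (h10 hT).2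
    refine X.tr_absurd hv0 hv (r := T 1 1 - T 0 0) (sub_ne_zero.2 (Ne.symm hne)) hk fun A B => ?_
    rw [e]
    simp [lr]
  have hT : P T := ⟨k, hk, e⟩
  refine ⟨(h10 hT).1, ?_, hdiag hT⟩
  have h' := hPconj (T' := !![T 1 1, -T 1 0; -T 0 1, T 0 0]) (map_zero σ) (show σ (-1) = -1 by rw [map_neg, map_one])
    (map_one σ) (map_zero σ) (by ring) hT (by
      ext i j
      fin_cases i <;> fin_cases j <;> simp [Matrix.mul_apply, Fin.sum_univ_two])
  simpa using (h10 h').1

/-- The root elements of the first half have scalar coefficients. -/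
theorem sg_scalar {θ : U →ₗ[F] U} {k : HU H} (hk : k ∈ K) (e : ∀ A B : U, k.1 (A, B) = (A + θ B, B)) :
    ∃ l : F, ∀ B, θ B = l • B := by
  have hθ : ∀ x y, g (θ x) y = g x (θ y) := fun x y => by
    have := HU.map_eq k (0, x) (0, y)
    rw [e, e, X.form, X.form] at this
    simp [X.ne, sub_eq_zero] at this
    exact this
  suffices ∀ v, g v v = 0 → g v (θ v) = 0 by
    obtain ⟨l, -, hl⟩ := X.scalar_of_iso hθ this
    exact ⟨l, hl⟩
  intro v hv
  by_cases hv0 : v = 0
  · rw [hv0]; simp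
  by_contra hP0
  let S : (U → U) → Prop := fun φ => ∃ k ∈ K, ∀ A B : U, (k : HU H).1 (A, B) = (A + φ B, B)
  have hadd : ∀ {φ ψ}, S φ → S ψ → S (fun B => φ B + ψ B) := by
    rintro φ ψ ⟨k, hk, e⟩ ⟨k', hk', e'⟩
    exact ⟨k * k', K.mul_mem hk hk', fun A B => by rw [mul_apply, e', e]; simp only [Prod.mk.injEq, and_true]; module⟩
  have hneg : ∀ {φ}, S φ → S (fun B => -φ B) := by
    rintro φ ⟨k, hk, e⟩
    exact ⟨k⁻¹, K.inv_mem hk, fun A B => inv_apply (by rw [e]; simp)⟩
  have hsq : ∀ {φ : U → U} {t : F}, σ t = t → (∀ (c : F) B, φ (c • B) = c • φ B) → S φ →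
      S (fun B => (t * t) • φ B) := by
    rintro φ t ht hφ ⟨k, hk, e⟩
    by_cases ht0 : t = 0
    · exact ⟨1, K.one_mem, fun A B => by simp [ht0]⟩
    obtain ⟨m, hm, em⟩ := X.sl t 0 0 t⁻¹ ht (map_zero σ) (map_zero σ) (by rw [map_inv₀, ht])
      (by rw [mul_inv_cancel₀ ht0]; ring)
    refine ⟨m * k * m⁻¹, K.mul_mem (K.mul_mem hm hk) (K.inv_mem hm), fun A B => ?_⟩
    refine quot_apply (φ := fun Y => (Y.1 + (t * t) • φ Y.2, Y.2)) (fun Y => ?_) (A, B)
    obtain ⟨A, B⟩ := Y
    rw [mul_apply, e, em, em]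
    simp only [zero_smul, add_zero, zero_add, hφ, smul_add, smul_smul, mul_assoc, mul_inv_cancel₀ ht0, mul_one]
  set P := g v (θ v)
  let L₁ : U → U := fun B => g v (θ B) • v - g v B • θ v
  let L₂ : U → U := fun B => (g v B * P) • v
  have hD : ∀ c : F, c + σ c = 0 → S (fun B => c • L₁ B - (c * c) • L₂ B) := by
    intro c hc
    obtain ⟨m, hm, em⟩ := X.dia_tr hv hc
    have h1 : S (fun B => θ B + (c • L₁ B - (c * c) • L₂ B)) := by
      refine ⟨m * k * m⁻¹, K.mul_mem (K.mul_mem hm hk) (K.inv_mem hm), fun A B => ?_⟩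
      refine quot_apply (φ := fun Y => (Y.1 + (θ Y.2 + (c • L₁ Y.2 - (c * c) • L₂ Y.2)), Y.2)) (fun Y => ?_) (A, B)
      obtain ⟨A, B⟩ := Y
      rw [mul_apply, e, em, em]
      simp only [L₁, L₂, map_add, map_smul, smul_eq_mul, hv, Prod.mk.injEq, and_true]
      module
    convert hadd h1 (hneg ⟨k, hk, e⟩) using 1
    funext B
    abel
  obtain ⟨r, hr, hr0, hr1⟩ := X.exists_real
  obtain ⟨c, hc0, hc⟩ := X.hg.exists_skew
  obtain ⟨p, p', hp, hp', hpp⟩ := X.sq_sub_sq hr
  have hlin : ∀ (a : F) B, c • L₁ (a • B) - (c * c) • L₂ (a • B) = a • (c • L₁ B - (c * c) • L₂ B) := fun a B => by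
    simp only [L₁, L₂, map_smul, smul_eq_mul]
    module
  have h2 := hadd (hsq hp hlin (hD c hc)) (hneg (hsq hp' hlin (hD c hc)))
  obtain ⟨k', hk', e'⟩ := hadd (hD (r * c) (by rw [map_mul, hr, ← mul_add, hc, mul_zero])) (hneg h2)
  refine X.tr_absurd hv0 hv (r := -((r * r - r) * (c * c) * P)) ?_ hk' fun A B => ?_
  · rw [neg_ne_zero, show r * r - r = r * (r - 1) by ring]
    exact mul_ne_zero (mul_ne_zero (mul_ne_zero hr0 (sub_ne_zero.2 hr1)) (mul_ne_zero hc0 hc0)) hP0
  · rw [e', hpp]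
    simp only [L₂, Prod.mk.injEq, and_true]
    module

/-- An element stabilising the first half is a tensor product. -/
theorem stab_kr {k : HU H} (hk : k ∈ K) (hs : Stab k) : Kr k := by
  have hgi := X.hg.invol
  let Φ : U →ₗ[F] U := LinearMap.fst F U U ∘ₗ (k.1 : U × U →ₗ[F] U × U) ∘ₗ LinearMap.inl F U U
  let D : U →ₗ[F] U := LinearMap.snd F U U ∘ₗ (k.1 : U × U →ₗ[F] U × U) ∘ₗ LinearMap.inr F U U
  let P : U →ₗ[F] U := LinearMap.fst F U U ∘ₗ (k.1 : U × U →ₗ[F] U × U) ∘ₗ LinearMap.inr F U U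
  have ek : ∀ A B : U, k.1 (A, B) = (Φ A + P B, D B) := fun A B => by
    rw [show ((A, B) : U × U) = (A, 0) + (0, B) by simp, map_add]
    refine Prod.ext rfl ?_
    show (k.1 (A, 0)).2 + (k.1 (0, B)).2 = D B
    rw [hs A, zero_add]
    rfl
  have hpair : ∀ A B, g (Φ A) (D B) = g A B := fun A B => by
    have := HU.map_eq k (A, 0) (0, B)
    rw [ek, ek, X.form, X.form] at this
    simp [X.ne] at this
    exact this
  have hDinj : Function.Injective D := (injective_iff_map_eq_zero D).2 fun B hB =>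
    X.hg.nondeg B fun y => by rw [← X.symm', ← hpair, hB, map_zero, map_zero]
  let De := LinearEquiv.ofBijective D ⟨hDinj, LinearMap.injective_iff_surjective.1 hDinj⟩
  obtain ⟨m, hm, em⟩ := X.sl 1 1 0 1 (map_one σ) (map_one σ) (map_zero σ) (map_one σ) (by ring)
  obtain ⟨μ, hμ⟩ := X.sg_scalar (θ := Φ ∘ₗ De.symm.toLinearMap) (K.mul_mem (K.mul_mem hk hm) (K.inv_mem hk))
    fun A B => by
      refine quot_apply (φ := fun Y => (Y.1 + (Φ ∘ₗ De.symm.toLinearMap) Y.2, Y.2)) (fun Y => ?_) (A, B)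
      obtain ⟨A, B⟩ := Y
      rw [mul_apply, em, ek, ek]
      simp only [LinearMap.comp_apply, LinearEquiv.coe_coe, Prod.mk.injEq, one_smul, zero_smul, zero_add, map_add,
        and_true]
      rw [show De.symm (D B) = B from De.symm_apply_apply B]
      abel
  have hΦ : ∀ A, Φ A = μ • D A := fun A => by
    have := hμ (D A)
    rwa [LinearMap.comp_apply, LinearEquiv.coe_coe, show De.symm (D A) = A from De.symm_apply_apply A] at this
  have hDD : ∀ A B, σ μ * g (D A) (D B) = g A B := fun A B => by rw [← smul_left, ← hΦ, hpair]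
  obtain ⟨v, hv0, hv⟩ := X.hg.exists_isotropic (by rw [X.dim]; norm_num)
  have hμ0 : μ ≠ 0 := fun h0 => hv0 (X.hg.nondeg v fun y => by rw [← hDD, h0, map_zero, zero_mul])
  have hσμ0 : σ μ ≠ 0 := fun h0 => hμ0 (IsInvol.apply_eq_zero_iff.1 h0)
  have hμr : σ μ = μ := by
    obtain ⟨v', h1, -⟩ := X.hg.exists_isotropic_partner hv0 hv
    have e1 := hDD v v'
    have e2 := congrArg σ (hDD v' v)
    rw [map_mul, X.symm', X.symm', hgi.invol, h1] at e2
    rw [h1] at e1
    exact mul_right_cancel₀ (fun h0 => by rw [h0, mul_zero] at e1; exact zero_ne_one e1) (e1.trans e2.symm)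
  let P' : U →ₗ[F] U := De.symm.toLinearMap ∘ₗ P
  have hP : ∀ B, P B = D (P' B) := fun B => (De.apply_symm_apply (P B)).symm
  have hP'sa : ∀ x y, g (P' x) y = g x (P' y) := fun x y => by
    have := HU.map_eq k (0, x) (0, y)
    rw [ek, ek, X.form, X.form, map_zero, zero_add, zero_add, hP, hP] at this
    simp [X.ne, sub_eq_zero] at this
    rw [← hDD (P' x) y, ← hDD x (P' y), this]
  obtain ⟨π, -, hπ⟩ := X.scalar_of_iso hP'sa fun v hv => by
    by_cases hv0 : v = 0
    · rw [hv0]; simp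
    obtain ⟨v', z, h1, h1', h2, hvz, hzv, hvz', hzv', hn, -⟩ := X.exists_frame hv0 hv
    obtain ⟨c, hc0, hc⟩ := X.hg.exists_skew
    obtain ⟨mτ, hmτ, eτ⟩ := X.dia_tr hv hc
    have hDv : g (D v) (D v) = 0 := by
      have := hDD v v
      rw [hv] at this
      exact (mul_eq_zero.1 this).resolve_left hσμ0
    obtain ⟨mτ', hmτ', eτ'⟩ := X.dia_tr hDv (c := c * μ) (by rw [map_mul, hμr, ← add_mul, hc, zero_mul])
    -- the correction to a root element of the first half
    let θ : U →ₗ[F] U := (c • ((g v).smulRight (P v) - ((μ • g (D v)) ∘ₗ P).smulRight (D v)) -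
      (g v).smulRight ((c * c * g v (P' v)) • D v)) ∘ₗ De.symm.toLinearMap
    have hθ : ∀ B, θ (D B) = (c * g v B) • P v - (c * (μ * g (D v) (P B))) • D v -
        (c * c * g v B * g v (P' v)) • D v := fun B => by
      simp only [θ, LinearMap.comp_apply, LinearEquiv.coe_coe, show De.symm (D B) = B from De.symm_apply_apply B,
        LinearMap.smul_apply, LinearMap.sub_apply, LinearMap.smulRight_apply, smul_eq_mul, smul_sub, smul_smul]
      module
    obtain ⟨ν, hν⟩ := X.sg_scalar (θ := θ)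
      (K.mul_mem (K.inv_mem hmτ') (K.mul_mem (K.mul_mem hk hmτ) (K.inv_mem hk))) fun A B => by
        refine quot_apply (a := mτ'⁻¹ * (k * mτ)) (b := k) (φ := fun Y => (Y.1 + θ Y.2, Y.2)) (fun Y => ?_) (A, B)
          |> Eq.trans (by simp only [mul_assoc])
        obtain ⟨A, B⟩ := Y
        rw [mul_apply, mul_apply, eτ, ek, ek]
        refine inv_apply ?_
        rw [eτ']
        simp only [hθ, map_add, map_smul, map_sub, hΦ, hP v, hP B, hDv, smul_eq_mul, Prod.mk.injEq]
        have e1 : ∀ y, μ * g (D v) (D y) = g v y := fun y => by rw [← hμr]; exact hDD v y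
        simp only [hμr, e1]
        constructor
        · match_scalars <;> (try ring1)
          linear_combination c * e1 (P' B) + c ^ 2 * g v B * e1 (P' v)
        · match_scalars <;> (try ring1)
          linear_combination c * e1 B
    have key : ∀ B, (c * g v B) • P' v - (c * g v (P' B)) • v - (c * c * g v B * g v (P' v)) • v = ν • B :=
      fun B => hDinj (by
        rw [map_sub, map_sub, map_smul, map_smul, map_smul, map_smul, ← hν, hθ, hP v, hP B, ← hμr, hDD])
    have hν0 : ν = 0 := by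
      have := congrArg (g z) (key z)
      simp [hvz, hzv, smul_right, hn] at this
      exact this
    have := congrArg (g v') (key v)
    simp [hv, h1', hν0, smul_right, hc0] at this
    exact this
  refine ⟨D, μ, π, 0, 1, fun A B => ?_⟩
  rw [ek, hΦ, hP, hπ, map_smul]
  simp

end Ctx

end CfsgLib.Geo.UnitTensorTwo
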