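/-
Frames of the three-dimensional space, diagonal elements and commutators of root elements.
-/
import Cfsg.Agent.Lib.Geo.UnitTensorTwo.Root

set_option autoImplicit false
set_option linter.unusedSectionVars false

namespace CfsgLib.Geo.UnitTensorTwo

open CfsgLib.Classical CfsgLib.Classical.Herm CfsgLib.Geo.UnitMax

variable {F : Type*} [Field F] {U : Type*} [AddCommGroup U] [Module F U] {σ : F →+* F}
  {g : U →ₛₗ[σ] U →ₗ[F] F} {H : U × U →ₛₗ[σ] U × U →ₗ[F] F}

variable [Finite F] [FiniteDimensional F U]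

namespace Ctx

variable {ζ : F} {K : Subgroup (HU H)} (X : Ctx g H ζ K)
include X

/-- A hyperbolic pair and an orthogonal anisotropic vector decompose every vector. -/
theorem frame_dec {v v' z : U} (hv : g v v = 0) (hv' : g v' v' = 0) (h1 : g v v' = 1) (hvz : g v z = 0)
    (hv'z : g v' z = 0) (hn : g z z ≠ 0) (Y : U) : Y = g v' Y • v + g v Y • v' + (g z Y / g z z) • z := by
  have h1' : g v' v = 1 := by rw [← X.symm', h1, map_one]
  have hzv := X.hg.eq_zero_symm hvz
  have hzv' := X.hg.eq_zero_symm hv'z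
  let L : U →ₗ[F] F × F × F := (g v).prod ((g v').prod (g z))
  have hsurj : Function.Surjective L := fun ⟨a, b, c⟩ => ⟨a • v' + b • v + (c / g z z) • z, by
    simp [L, smul_right, hv, hv', h1, h1', hvz, hv'z, hzv, hzv', hn]⟩
  have hinj : Function.Injective L := (LinearMap.injective_iff_surjective_of_finrank_eq_finrank (by
    rw [X.dim]; simp [Module.finrank_prod])).2 hsurj
  refine hinj ?_
  simp [L, smul_right, hv, hv', h1, h1', hvz, hv'z, hzv, hzv', hn]

/-- An isotropic partner orthogonal to an anisotropic vector. -/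
theorem perp_partner {v u : U} (hv0 : v ≠ 0) (hv : g v v = 0) (hvu : g v u = 0) (hn : g u u ≠ 0) :
    ∃ v', g v v' = 1 ∧ g v' v' = 0 ∧ g v' u = 0 := by
  obtain ⟨y, hy⟩ := X.hg.exists_apply_eq_one hv0
  have huv := X.hg.eq_zero_symm hvu
  set y1 := y - (g u y / g u u) • u with hy1
  have e1 : g v y1 = 1 := by rw [hy1, map_sub, smul_right, hvu, hy, mul_zero, sub_zero]
  have e2 : g u y1 = 0 := by rw [hy1, map_sub, smul_right, div_mul_cancel₀ _ hn, sub_self]
  obtain ⟨s, hs⟩ := X.hg.invol.exists_trace_eq (μ := -g y1 y1) (by rw [map_neg, X.hg.self_fixed])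
  refine ⟨y1 + s • v, ?_, ?_, ?_⟩
  · rw [map_add, smul_right, hv, mul_zero, add_zero, e1]
  · have e1' : g y1 v = 1 := by rw [← X.symm', e1, map_one]
    simp only [map_add, LinearMap.add_apply, smul_left, smul_right, hv, e1, e1']
    linear_combination hs
  · rw [add_left, smul_left, hvu, mul_zero, add_zero, X.hg.eq_zero_symm e2]

/-- A hyperbolic pair orthogonal to an anisotropic vector. -/
theorem exists_perp_frame {u : U} (hn : g u u ≠ 0) :
    ∃ v v' : U, v ≠ 0 ∧ g v v = 0 ∧ g v' v' = 0 ∧ g v v' = 1 ∧ g v u = 0 ∧ g v' u = 0 := by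
  have hW := X.hg.restrict_perp hn
  have hr := X.hg.finrank_perp hn
  rw [X.dim] at hr
  obtain ⟨v, hv0, hv⟩ := hW.exists_isotropic (by omega)
  have hvu := X.hg.eq_zero_symm (X.hg.mem_perp.1 v.2)
  have hv0' : (v : U) ≠ 0 := fun h0 => hv0 (Subtype.ext h0)
  obtain ⟨v', e1, e2, e3⟩ := X.perp_partner hv0' hv hvu hn
  exact ⟨v, v', hv0', hv, e2, e1, hvu, e3⟩

/-- The diagonal elements of a frame. -/
theorem exists_diag {v v' z : U} (hv : g v v = 0) (hv' : g v' v' = 0) (h1 : g v v' = 1) (hvz : g v z = 0)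
    (hv'z : g v' z = 0) (hn : g z z ≠ 0) {a b c : F} (hab : σ a * b = 1) (hc : c * σ c = 1) (habc : a * b * c = 1) :
    ∃ τ ∈ HSU g, ∀ Y, (τ : HU g).1 Y = (a * g v' Y) • v + (b * g v Y) • v' + (c * (g z Y / g z z)) • z := by
  have h1' : g v' v = 1 := by rw [← X.symm', h1, map_one]
  have hzv := X.hg.eq_zero_symm hvz
  have hzv' := X.hg.eq_zero_symm hv'z
  have hdec := X.frame_dec hv hv' h1 hvz hv'z hn
  have hba : σ b * a = 1 := by
    have := congrArg σ hab
    rw [map_mul, X.hg.invol.invol, map_one] at this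
    linear_combination this
  let T : U →ₗ[F] U := (a • g v').smulRight v + (b • g v).smulRight v' + ((c / g z z) • g z).smulRight z
  have hT : ∀ Y, T Y = (a * g v' Y) • v + (b * g v Y) • v' + (c * (g z Y / g z z)) • z := fun Y => by
    simp [T, div_mul_eq_mul_div, mul_div_assoc]
  have hTg : ∀ x y, g (T x) (T y) = g x y := fun x y => by
    conv_rhs => rw [hdec x, hdec y]
    simp only [hT, map_add, LinearMap.add_apply, smul_left, smul_right, hv, hv', h1, h1', hvz, hv'z, hzv, hzv', map_mul]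
    linear_combination (σ (g v' x) * g v y) * hab + (σ (g v x) * g v' y) * hba +
      (σ (g z x / g z z) * (g z y / g z z) * g z z) * hc
  refine ⟨X.hg.ofPreserves T hTg, ?_, hT⟩
  rw [MonoidHom.mem_ker]
  ext
  show ((LinearEquiv.det (X.hg.ofPreserves T hTg : U ≃ₗ[F] U) : Fˣ) : F) = 1
  rw [LinearEquiv.coe_det, IsHerm.coe_ofPreserves]
  have hli : LinearIndependent F ![v, v', z] := by
    rw [Fintype.linearIndependent_iff]
    intro d hd
    have e1 := congrArg (g v) hd
    have e2 := congrArg (g v') hd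
    have e3 := congrArg (g z) hd
    simp [Fin.sum_univ_three, hv, hv', h1, h1', hvz, hv'z, hzv, hzv', hn] at e1 e2 e3
    intro i
    fin_cases i <;> assumption
  let B := basisOfLinearIndependentOfCardEqFinrank hli (by rw [X.dim]; rfl)
  have hB : (B : Fin 3 → U) = ![v, v', z] := coe_basisOfLinearIndependentOfCardEqFinrank _ _
  have hTB : ∀ j, T (B j) = ![a, b, c] j • B j := by
    intro j
    rw [hB]
    fin_cases j <;> simp [hT, hv, hv', h1, h1', hvz, hv'z, hzv, hzv', hn]
  have hmat : LinearMap.toMatrix B B T = Matrix.diagonal ![a, b, c] := by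
    ext i j
    rw [LinearMap.toMatrix_apply, hTB, map_smul, Module.Basis.repr_self, Finsupp.smul_apply,
      Finsupp.single_apply, Matrix.diagonal_apply]
    by_cases hij : i = j
    · subst hij; simp
    · simp [hij, Ne.symm hij]
  rw [← LinearMap.det_toMatrix B, hmat, Matrix.det_diagonal, Fin.prod_univ_three]
  simpa using habc

/-- An element which is a scalar on the complement of an anisotropic vector. -/
theorem exists_perp_scalar {u : U} (hn : g u u ≠ 0) {ω : F} (hω : ω * σ ω = 1) :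
    ∃ τ ∈ HSU g, ∀ Y, (τ : HU g).1 Y = ω • Y + (((ω * ω)⁻¹ - ω) * (g u Y / g u u)) • u := by
  obtain ⟨v, v', -, hv, hv', h1, hvu, hv'u⟩ := X.exists_perp_frame hn
  have hω0 : ω ≠ 0 := left_ne_zero_of_mul_eq_one hω
  have hσω : σ ω = ω⁻¹ := eq_inv_of_mul_eq_one_right hω
  obtain ⟨τ, hτ, e⟩ := X.exists_diag hv hv' h1 hvu hv'u hn (a := ω) (b := ω) (c := (ω * ω)⁻¹)
    (by rw [mul_comm]; exact hω) (by rw [map_inv₀, map_mul, hσω]; field_simp) (by field_simp)
  refine ⟨τ, hτ, fun Y => ?_⟩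
  rw [e]
  conv_rhs => arg 1; rw [X.frame_dec hv hv' h1 hvu hv'u hn Y]
  module

/-- The Eichler transformations as root elements. -/
theorem dia_el {v z : U} (hv : g v v = 0) (hvz : g v z = 0) (s : F) :
    ∃ a : F, ∃ k ∈ K, ∀ Y : U × U, (k : HU H).1 Y =
      el g v z (s • (1 : Matrix (Fin 2) (Fin 2) F)) ((-σ s) • (1 : Matrix (Fin 2) (Fin 2) F))
        (a • (1 : Matrix (Fin 2) (Fin 2) F)) Y := by
  obtain ⟨a, ha⟩ := X.hg.invol.exists_trace_eq (μ := -g (s • z) (s • z)) (by rw [map_neg, X.hg.self_fixed])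
  have hvx : g v (s • z) = 0 := by rw [smul_right, hvz, mul_zero]
  obtain ⟨k, hk, ek⟩ := X.dia (X.hg.eich hv hvx ha) (X.hg.det_eich hv hvx ha)
  refine ⟨a, k, hk, fun Y => ?_⟩
  obtain ⟨A, B⟩ := Y
  rw [ek]
  simp only [X.hg.eich_apply, el, Matrix.smul_apply, Matrix.one_apply_eq, smul_eq_mul, smul_left, mul_one,
    Matrix.one_apply_ne (show (0 : Fin 2) ≠ 1 by decide), Matrix.one_apply_ne (show (1 : Fin 2) ≠ 0 by decide),
    mul_zero, zero_mul, add_zero, zero_add, Prod.mk.injEq]
  constructor <;> module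

/-- The commutator with an Eichler transformation. -/
theorem el_comm {v z : U} (hv0 : v ≠ 0) (hv : g v v = 0) (hvz : g v z = 0) (hn : g z z ≠ 0)
    {M R T : Matrix (Fin 2) (Fin 2) F} {k : HU H} (hk : k ∈ K) (ek : ∀ Y, k.1 Y = el g v z M R T Y) (s : F) :
    s * R 0 1 + σ s * M 0 1 = 0 ∧ s * R 1 0 + σ s * M 1 0 = 0 ∧
      s * R 0 0 + σ s * M 0 0 = s * R 1 1 + σ s * M 1 1 := by
  have hzv := X.hg.eq_zero_symm hvz
  obtain ⟨a, e, he, ee⟩ := X.dia_el hv hvz s
  set M' := s • (1 : Matrix (Fin 2) (Fin 2) F) with hM'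
  set R' := (-σ s) • (1 : Matrix (Fin 2) (Fin 2) F) with hR'
  set D := g z z • (R * M' - R' * M) with hD
  have key : ∀ Y, (k * e).1 Y = lr g v D ((e * k).1 Y) := fun Y => by
    rw [mul_apply, mul_apply, ee, ek, ek, ee, el_el hv hvz hzv, el_el hv hvz hzv, ← el_lr v z D,
      el_el hv hvz hzv]
    congr 1
    · abel
    · abel
    · rw [hD, zero_mul, smul_zero, add_zero, smul_sub]
      abel
  obtain ⟨h10, h01, hd⟩ := X.root_scalar hv0 hv (T := D)
    (K.mul_mem (K.mul_mem hk he) (K.inv_mem (K.mul_mem he hk))) (quot_apply key)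
  simp [hD, hM', hR', hn] at h10 h01 hd
  refine ⟨mul_left_cancel₀ hn ?_, mul_left_cancel₀ hn ?_, mul_left_cancel₀ hn ?_⟩
  · linear_combination h01
  · linear_combination h10
  · linear_combination hd

/-- Only zero has all multiples of trace zero. -/
theorem eq_zero_of_trace {a : F} (h : ∀ s : F, s * a + σ (s * a) = 0) : a = 0 := by
  by_contra ha
  obtain ⟨w, hw⟩ := X.hg.invol.exists_trace_ne_zero
  have := h (w / a)
  rw [div_mul_cancel₀ _ ha] at this
  exact hw this

/-- Only zero has all multiples fixed. -/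
theorem eq_zero_of_fixed {a : F} (h : ∀ s : F, σ (s * a) = s * a) : a = 0 := by
  by_contra ha
  obtain ⟨w, hw⟩ := X.hg.invol.exists_ne
  have := h (w / a)
  rw [div_mul_cancel₀ _ ha] at this
  exact hw this

/-- An element fixing the first half and the second coordinate is a root element of the first half. -/
theorem mk_sg {k : HU H} (hk : k ∈ K) (h1 : ∀ A : U, k.1 (A, 0) = (A, 0)) (h2 : ∀ B : U, (k.1 (0, B)).2 = B) :
    ∃ l : F, ∀ A B : U, k.1 (A, B) = (A + l • B, B) := by
  let θ : U →ₗ[F] U := LinearMap.fst F U U ∘ₗ (k.1 : U × U →ₗ[F] U × U) ∘ₗ LinearMap.inr F U U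
  have e : ∀ A B : U, k.1 (A, B) = (A + θ B, B) := fun A B => by
    rw [show ((A, B) : U × U) = (A, 0) + (0, B) by simp, map_add, h1]
    refine Prod.ext rfl ?_
    show 0 + (k.1 (0, B)).2 = B
    rw [h2, zero_add]
  obtain ⟨l, hl⟩ := X.sg_scalar hk e
  exact ⟨l, fun A B => by rw [e, hl]⟩

end Ctx

end CfsgLib.Geo.UnitTensorTwo
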