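/-
Elements fixing a point of the first half.
-/
import Cfsg.Agent.Lib.Geo.UnitTensorTwo.Frame

set_option autoImplicit false
set_option linter.unusedSectionVars false

namespace CfsgLib.Geo.UnitTensorTwo

open CfsgLib.Classical CfsgLib.Classical.Herm CfsgLib.Geo.UnitMax

variable {F : Type*} [Field F] {U : Type*} [AddCommGroup U] [Module F U] {σ : F →+* F}
  {g : U →ₛₗ[σ] U →ₗ[F] F} {H : U × U →ₛₗ[σ] U × U →ₗ[F] F}

variable [Finite F] [FiniteDimensional F U]

namespace Ctx

variable {ζ : F} {K : Subgroup (HU H)} (X : Ctx g H ζ K)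
include X

/-- The form in terms of the three-dimensional one. -/
theorem form_eq (Y Z : U × U) : H Y Z = ζ * (g Y.1 Z.2 - g Y.2 Z.1) := X.form Y.1 Y.2 Z.1 Z.2

/-- An element fixing a point and acting trivially around it is trivial. -/
theorem kernel_trivial {u : U} (hn : g u u ≠ 0) {D : HU H} (hD : D ∈ K) (hfix : D.1 (u, 0) = (u, 0))
    (htriv : ∀ Y : U × U, g u Y.2 = 0 → ∃ c : F, D.1 Y = Y + c • ((u, 0) : U × U)) : D = 1 := by
  have hA : ∀ A : U, ∃ c : F, D.1 (A, 0) = (A + c • u, 0) := fun A => by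
    obtain ⟨c, hc⟩ := htriv (A, 0) (map_zero _)
    exact ⟨c, by rw [hc]; simp⟩
  have hB : ∀ B : U, g u B = 0 → ∃ c : F, D.1 (0, B) = (c • u, B) := fun B hB => by
    obtain ⟨c, hc⟩ := htriv (0, B) hB
    exact ⟨c, by rw [hc]; simp⟩
  have hsnd : ∀ A B : U, (D.1 (A, B)).2 = (D.1 (0, B)).2 := fun A B => by
    obtain ⟨c, hc⟩ := hA A
    rw [show ((A, B) : U × U) = (A, 0) + (0, B) by simp, map_add, Prod.snd_add, hc, zero_add]
  obtain ⟨m, hm, em⟩ := X.sl 1 1 0 1 (map_one σ) (map_one σ) (map_zero σ) (map_one σ) (by ring)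
  simp only [one_smul, zero_smul, zero_add] at em
  set k' := (m * D) * (D * m)⁻¹ with hk'
  have ek' : ∀ Y, k'.1 (D.1 (m.1 Y)) = m.1 (D.1 Y) := fun Y =>
    (mul_apply k' (D * m) Y).symm.trans (by rw [hk', inv_mul_cancel_right]; rfl)
  obtain ⟨l, hl⟩ := X.mk_sg (k := k') (K.mul_mem (K.mul_mem hm hD) (K.inv_mem (K.mul_mem hD hm)))
    (fun A => by
      obtain ⟨c, hc⟩ := hA A
      have hY : D.1 (A - c • u, 0) = (A, 0) := by
        have e0 : ((A - c • u, 0) : U × U) = (A, 0) - c • (u, 0) := by simp
        rw [e0, map_sub, map_smul, hc, hfix]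
        simp
      have := ek' (A - c • u, 0)
      rwa [em, add_zero, hY, em, add_zero] at this)
    (fun B => by
      obtain ⟨Y, hY⟩ := (D * m).1.surjective (0, B)
      obtain ⟨A', B'⟩ := Y
      rw [mul_apply, em] at hY
      have e := congrArg Prod.snd (ek' (A', B'))
      rw [em, hY] at e
      have e2 := congrArg Prod.snd hY
      rw [hsnd] at e2
      rw [e, show D.1 (A', B') = ((D.1 (A', B')).1, (D.1 (A', B')).2) from rfl, em, hsnd]
      exact e2)
  -- the image of the partner
  obtain ⟨P1, P2, hP⟩ : ∃ P1 P2, D.1 (0, u) = (P1, P2) := ⟨_, _, rfl⟩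
  have hP2 : g u P2 = g u u := by
    have := HU.map_eq D (u, 0) (0, u)
    rw [hfix, hP, X.form, X.form] at this
    simpa [X.ne] using this
  have e := ek' (0, u)
  rw [em, zero_add, hP, em, show ((u, u) : U × U) = (u, 0) + (0, u) by simp, map_add, hfix, hP,
    Prod.mk_add_mk, zero_add, hl] at e
  have e1 : u + l • P2 = P2 := by
    have := congrArg Prod.fst e
    simp only at this
    rw [add_assoc, add_left_comm] at this
    exact add_left_cancel this
  have hl0 : l = 0 := by
    have := congrArg (g u) e1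
    rw [map_add, smul_right, hP2] at this
    exact (mul_eq_zero.1 (by linear_combination this : l * g u u = 0)).resolve_right hn
  rw [hl0, zero_smul, add_zero] at e1
  subst e1
  -- the element is a root element of the first half
  have hA0 : ∀ A, D.1 (A, 0) = (A, 0) := fun A => by
    obtain ⟨c, hc⟩ := hA A
    have := HU.map_eq D (A, 0) (0, u)
    rw [hc, hP, X.form, X.form] at this
    simp only [map_zero, LinearMap.zero_apply, sub_zero, smul_left, map_add, LinearMap.add_apply] at this
    have h' := mul_left_cancel₀ X.ne this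
    have : σ c = 0 := (mul_eq_zero.1 (by linear_combination h' : σ c * g u u = 0)).resolve_right hn
    rw [hc, IsInvol.apply_eq_zero_iff.1 this, zero_smul, add_zero]
  obtain ⟨l', hl'⟩ := X.mk_sg hD hA0 fun B => by
    have e : ((0 : U), B) = (g u B / g u u) • ((0 : U), u) + ((0 : U), B - (g u B / g u u) • u) := by simp
    obtain ⟨c, hc⟩ := hB (B - (g u B / g u u) • u) (by rw [map_sub, smul_right, div_mul_cancel₀ _ hn, sub_self])
    rw [e, map_add, map_smul, hP, hc]
    simp
  obtain ⟨v, v', hv0, hv, -, -, hvu, -⟩ := X.exists_perp_frame hn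
  obtain ⟨c, hc⟩ := hB v (X.hg.eq_zero_symm hvu)
  rw [hl', zero_add] at hc
  have e3 : l' • v = c • u := congrArg Prod.fst hc
  have : c = 0 := by
    have := congrArg (g u) e3
    simp [smul_right, X.hg.eq_zero_symm hvu, hn] at this
    exact this
  rw [this, zero_smul, smul_eq_zero] at e3
  refine Subtype.ext (LinearEquiv.ext fun Y => ?_)
  obtain ⟨A, B⟩ := Y
  rw [hl', e3.resolve_right hv0, zero_smul, add_zero]
  rfl

/-- An element fixing a point preserves its plane and the perpendicular space. -/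
theorem plane_of_fix {u : U} (hn : g u u ≠ 0) {k : HU H} (hk : k ∈ K) {l : F} (hl : k.1 (u, 0) = l • ((u, 0) : U × U)) :
    (∀ a b : F, ∃ a' b' : F, k.1 (a • u, b • u) = (a' • u, b' • u)) ∧
      ∀ A B : U, g u A = 0 → g u B = 0 → g u (k.1 (A, B)).1 = 0 ∧ g u (k.1 (A, B)).2 = 0 := by
  obtain ⟨ω, hω, hω3⟩ := X.exists_norm_one_cube
  have hω0 : ω ≠ 0 := left_ne_zero_of_mul_eq_one hω
  obtain ⟨τ, hτ, eτ⟩ := X.exists_perp_scalar hn hω
  obtain ⟨s, hs, es⟩ := X.dia τ hτ
  set κ := (ω * ω)⁻¹ - ω with hκ
  have hκ0 : κ ≠ 0 := by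
    rw [hκ, sub_ne_zero]
    intro h
    refine hω3 ?_
    field_simp at h
    linear_combination -h
  have hu0 : u ≠ 0 := fun h => hn (by rw [h]; simp)
  have hl0 : l ≠ 0 := fun h => hu0 (by
    have e1 : k.1 (u, 0) = 0 := by rw [hl, h, zero_smul]
    simpa using (LinearEquiv.map_eq_zero_iff _).1 e1)
  let π : U × U → U × U := fun Y => ((g u Y.1 / g u u) • u, (g u Y.2 / g u u) • u)
  have es' : ∀ Y : U × U, s.1 Y = ω • Y + κ • π Y := fun Y => by
    obtain ⟨A, B⟩ := Y
    rw [es, eτ, eτ]
    simp [π, smul_smul]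
  have hμ : ω + κ ≠ 0 := by
    rw [hκ, add_sub_cancel]
    exact inv_ne_zero (mul_ne_zero hω0 hω0)
  have hp : ∀ {Y : U × U}, g u Y.2 = 0 → π Y = (g u Y.1 / g u u) • ((u, 0) : U × U) := fun {Y} hY => by
    simp [π, hY]
  have hperp : ∀ {Y : U × U}, g u Y.2 = 0 ↔ H (u, 0) Y = 0 := fun {Y} => by simp [X.form_eq, X.ne]
  have hkperp : ∀ {Y : U × U}, g u (k.1 Y).2 = 0 ↔ g u Y.2 = 0 := fun {Y} => by
    rw [hperp, hperp, ← HU.map_eq k (u, 0) Y, hl, smul_left]
    simp [hl0]
  have hsperp : ∀ {Y : U × U}, g u (s.1 Y).2 = 0 ↔ g u Y.2 = 0 := fun {Y} => by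
    rw [es']
    have : ω * g u Y.2 + κ * (g u Y.2 / g u u * g u u) = (ω + κ) * g u Y.2 := by rw [div_mul_cancel₀ _ hn]; ring
    simp only [π, Prod.snd_add, Prod.smul_snd, map_add, smul_right, this, mul_eq_zero, hμ, false_or]
  -- the commutator is trivial
  have hks : k * s = s * k := by
    rw [← mul_inv_eq_one]
    have esp : s.1 (u, 0) = (ω + κ) • ((u, 0) : U × U) := by rw [es', hp (by simp), div_self hn, one_smul, add_smul]
    refine X.kernel_trivial hn (K.mul_mem (K.mul_mem hk hs) (K.inv_mem (K.mul_mem hs hk))) ?_ fun Z hZ => ?_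
    · have e1 : (s * k).1 (u, 0) = (k * s).1 (u, 0) := by
        rw [mul_apply, mul_apply, esp, map_smul, hl, map_smul, esp, smul_smul, smul_smul, mul_comm]
      have e2 : (k * s).1 (u, 0) = (l * (ω + κ)) • ((u, 0) : U × U) := by
        rw [mul_apply, esp, map_smul, hl, smul_smul, mul_comm]
      have e3 := mul_apply ((k * s) * (s * k)⁻¹) (s * k) (u, 0)
      rw [inv_mul_cancel_right, e1, e2, map_smul] at e3
      exact (smul_right_injective _ (mul_ne_zero hl0 hμ) e3).symm
    · obtain ⟨Y, rfl⟩ := (s * k).1.surjective Z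
      rw [mul_apply, hsperp, hkperp] at hZ
      refine ⟨κ * (g u Y.1 / g u u) * l - κ * (g u (k.1 Y).1 / g u u), ?_⟩
      rw [← mul_apply, inv_mul_cancel_right, mul_apply, mul_apply, es', es', hp hZ, hp (hkperp.2 hZ), map_add,
        map_smul, map_smul, map_smul, hl]
      module
  have hπ : ∀ Y, k.1 (π Y) = π (k.1 Y) := fun Y => by
    have := congrArg (fun f : HU H => f.1 Y) hks
    simp only [mul_apply, es', map_add, map_smul] at this
    exact smul_right_injective _ hκ0 (add_left_cancel this)
  refine ⟨fun a b => ?_, fun A B hA hB => ?_⟩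
  · have := hπ (a • u, b • u)
    have e : π (a • u, b • u) = (a • u, b • u) := by simp [π, smul_right, hn]
    rw [e] at this
    exact ⟨_, _, this⟩
  · have := hπ (A, B)
    have e : π (A, B) = 0 := by simp [π, hA, hB]
    rw [e, map_zero] at this
    have e1 : (g u (k.1 (A, B)).1 / g u u) • u = 0 := congrArg Prod.fst this.symm
    have e2 : (g u (k.1 (A, B)).2 / g u u) • u = 0 := congrArg Prod.snd this.symm
    simpa [smul_eq_zero, hu0, hn] using And.intro e1 e2

/-- An element fixing a plane pointwise and mapping a root line to a root line is scalar on it. -/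
theorem scalar_on_line {u v w : U} (hn : g u u ≠ 0) (hv : g v v = 0) (hvu : g v u = 0) (hw0 : w ≠ 0) (hw : g w w = 0)
    (hwu : g w u = 0) {k : HU H} (hk : k ∈ K) (hfix : ∀ a b : F, k.1 (a • u, b • u) = (a • u, b • u))
    {α β γ δ : F} (e0 : k.1 (v, 0) = (α • w, γ • w)) (e1 : k.1 (0, v) = (β • w, δ • w)) :
    β = 0 ∧ γ = 0 ∧ α = δ := by
  obtain ⟨a, e, he, ee⟩ := X.dia_el hv hvu 1
  have hP : ∀ A, k.1 (A • v, 0) = A • ((α • w, γ • w) : U × U) := fun A => by
    rw [← e0, ← map_smul]; simp
  have hQ : ∀ A, k.1 (0, A • v) = A • ((β • w, δ • w) : U × U) := fun A => by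
    rw [← e1, ← map_smul]; simp
  have hu1 : k.1 (u, 0) = (u, 0) := by simpa using hfix 1 0
  have hu2 : k.1 (0, u) = (0, u) := by simpa using hfix 0 1
  set M : Matrix (Fin 2) (Fin 2) F := !![σ δ, -σ β; -σ γ, σ α] with hM
  set R : Matrix (Fin 2) (Fin 2) F := !![-α, -β; -γ, -δ] with hR
  set T : Matrix (Fin 2) (Fin 2) F :=
    !![a * (α * σ δ - β * σ γ), a * (β * σ α - α * σ β); a * (γ * σ δ - δ * σ γ), a * (δ * σ α - γ * σ β)] with hT
  have ek : ∀ Y, (k * e * k⁻¹).1 Y = el g w u M R T Y := by
    refine fun Y => quot_apply (fun W => ?_) Y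
    obtain ⟨A, B⟩ := W
    have h1 : g v A = σ δ * g w (k.1 (A, B)).1 - σ β * g w (k.1 (A, B)).2 := by
      have := HU.map_eq k (0, v) (A, B)
      rw [e1, X.form_eq, X.form_eq] at this
      simp only [map_zero, LinearMap.zero_apply, smul_left] at this
      linear_combination mul_left_cancel₀ X.ne this
    have h2 : g v B = σ α * g w (k.1 (A, B)).2 - σ γ * g w (k.1 (A, B)).1 := by
      have := HU.map_eq k (v, 0) (A, B)
      rw [e0, X.form_eq, X.form_eq] at this
      simp only [map_zero, LinearMap.zero_apply, smul_left] at this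
      linear_combination -mul_left_cancel₀ X.ne this
    have h3 : g u A = g u (k.1 (A, B)).1 := by
      have := HU.map_eq k (0, u) (A, B)
      rw [hu2, X.form_eq, X.form_eq] at this
      simp only [map_zero, LinearMap.zero_apply] at this
      linear_combination mul_left_cancel₀ X.ne this
    have h4 : g u B = g u (k.1 (A, B)).2 := by
      have := HU.map_eq k (u, 0) (A, B)
      rw [hu1, X.form_eq, X.form_eq] at this
      simp only [map_zero, LinearMap.zero_apply] at this
      linear_combination -mul_left_cancel₀ X.ne this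
    rw [mul_apply, ee]
    have e : el g v u ((1 : F) • (1 : Matrix (Fin 2) (Fin 2) F)) ((-σ 1) • 1) (a • 1) (A, B) =
        (A, B) + (g v A • u, g v B • u) + ((a * g v A - g u A) • v, 0) + (0, (a * g v B - g u B) • v) := by
      simp [el, map_one]
      constructor <;> module
    rw [e, map_add, map_add, map_add, hfix, hP, hQ, h1, h2, h3, h4]
    obtain ⟨P, Q⟩ := k.1 (A, B)
    simp only [el, hM, hR, hT, Matrix.of_apply, Matrix.cons_val', Matrix.cons_val_zero, Matrix.cons_val_one,
      Matrix.empty_val', Matrix.cons_val_fin_one, Prod.smul_mk, Prod.mk_add_mk, Prod.mk.injEq, smul_smul]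
    constructor <;> module
  have hcomm := fun s => X.el_comm hw0 hw hwu hn (K.mul_mem (K.mul_mem hk he) (K.inv_mem hk)) ek s
  refine ⟨X.eq_zero_of_trace fun s => ?_, X.eq_zero_of_trace fun s => ?_, sub_eq_zero.1 (X.eq_zero_of_trace fun s => ?_)⟩
  · obtain ⟨h, -, -⟩ := hcomm s
    simp [hM, hR] at h
    rw [map_mul]
    linear_combination -h
  · obtain ⟨-, h, -⟩ := hcomm s
    simp [hM, hR] at h
    rw [map_mul]
    linear_combination -h
  · obtain ⟨-, -, h⟩ := hcomm s
    simp [hM, hR] at h
    rw [map_mul, map_sub]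
    linear_combination -h

/-- The case of a fixed isotropic point, the root line being stabilised. -/
theorem stab_of_line {v : U} (hv0 : v ≠ 0) (hv : g v v = 0) {k : HU H} (hk : k ∈ K) {l δ : F}
    (e0 : k.1 (v, 0) = (l • v, 0)) (e1 : k.1 (0, v) = (0, δ • v)) (hl : l ≠ 0) (hδ : δ ≠ 0)
    (hreal : σ l * δ = l * σ δ) : Stab k := by
  obtain ⟨v', z, h1, h1', h2, hvz, hzv, hvz', hzv', hn, hdec⟩ := X.exists_frame hv0 hv
  have hgi := X.hg.invol
  have hσl : σ l ≠ 0 := fun h => hl (IsInvol.apply_eq_zero_iff.1 h)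
  have hσδ : σ δ ≠ 0 := fun h => hδ (IsInvol.apply_eq_zero_iff.1 h)
  have hP : ∀ A, k.1 (A • v, 0) = A • ((l • v, 0) : U × U) := fun A => by
    rw [← e0, ← map_smul]; simp
  have hQ : ∀ A, k.1 (0, A • v) = A • ((0, δ • v) : U × U) := fun A => by
    rw [← e1, ← map_smul]; simp
  obtain ⟨p, q, hpq⟩ : ∃ p q, k.1 (z, 0) = (p, q) := ⟨_, _, rfl⟩
  obtain ⟨p', q', hpq'⟩ : ∃ p q, k.1 (0, z) = (p, q) := ⟨_, _, rfl⟩
  have hv1 : ∀ A B, g v A = σ δ * g v (k.1 (A, B)).1 := fun A B => by
    have := HU.map_eq k (0, v) (A, B)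
    rw [e1, X.form_eq, X.form_eq] at this
    simp only [map_zero, LinearMap.zero_apply, smul_left] at this
    linear_combination mul_left_cancel₀ X.ne this
  have hv2 : ∀ A B, g v B = σ l * g v (k.1 (A, B)).2 := fun A B => by
    have := HU.map_eq k (v, 0) (A, B)
    rw [e0, X.form_eq, X.form_eq] at this
    simp only [map_zero, LinearMap.zero_apply, smul_left] at this
    linear_combination -mul_left_cancel₀ X.ne this
  have hp : g v p = 0 := by have := hv1 z 0; rw [hpq, hvz] at this; simpa [hδ] using this.symm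
  have hq : g v q = 0 := by have := hv2 z 0; rw [hpq, map_zero] at this; simpa [hl] using this.symm
  have hp' : g v p' = 0 := by have := hv1 0 z; rw [hpq', map_zero] at this; simpa [hδ] using this.symm
  have hq' : g v q' = 0 := by have := hv2 0 z; rw [hpq', hvz] at this; simpa [hl] using this.symm
  have hdv : ∀ {x}, g v x = 0 → x = g v' x • v + (g z x / g z z) • z := fun {x} hx => by
    conv_lhs => rw [hdec x, hx, zero_smul, add_zero]
  set c00 := g z p / g z z with hc00
  set c10 := g z q / g z z with hc10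
  set c01 := g z p' / g z z with hc01
  set c11 := g z q' / g z z with hc11
  set n00 := g v' p with hn00
  set n10 := g v' q with hn10
  set n01 := g v' p' with hn01
  set n11 := g v' q' with hn11
  have dp : p = n00 • v + c00 • z := hdv hp
  have dq : q = n10 • v + c10 • z := hdv hq
  have dp' : p' = n01 • v + c01 • z := hdv hp'
  have dq' : q' = n11 • v + c11 • z := hdv hq'
  -- the conjugates of the Eichler transformations
  have hG : ∀ s : F, ∃ a : F, ∃ G ∈ K, ∀ Y, (G : HU H).1 Y = el g v z
      !![s * (c00 * σ δ), s * (c01 * σ l); s * (c10 * σ δ), s * (c11 * σ l)]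
      !![-σ s * (l * σ c11), σ s * (l * σ c01); σ s * (δ * σ c10), -σ s * (δ * σ c00)]
      !![a * l * σ δ + s * σ δ * n00 - σ s * l * σ n11, s * σ l * n01 + σ s * l * σ n01;
        s * σ δ * n10 + σ s * δ * σ n10, a * δ * σ l + s * σ l * n11 - σ s * δ * σ n00] Y := by
    intro s
    obtain ⟨a, e, he, ee⟩ := X.dia_el hv hvz s
    refine ⟨a, k * e * k⁻¹, K.mul_mem (K.mul_mem hk he) (K.inv_mem hk), fun Y => quot_apply (fun W => ?_) Y⟩
    obtain ⟨A, B⟩ := W
    have h3 : g z A = g q' (k.1 (A, B)).1 - g p' (k.1 (A, B)).2 := by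
      have := HU.map_eq k (0, z) (A, B)
      rw [hpq', X.form_eq, X.form_eq] at this
      simp only [map_zero, LinearMap.zero_apply] at this
      linear_combination mul_left_cancel₀ X.ne this
    have h4 : g z B = g p (k.1 (A, B)).2 - g q (k.1 (A, B)).1 := by
      have := HU.map_eq k (z, 0) (A, B)
      rw [hpq, X.form_eq, X.form_eq] at this
      simp only [map_zero, LinearMap.zero_apply] at this
      linear_combination -mul_left_cancel₀ X.ne this
    rw [mul_apply, ee]
    have e : el g v z (s • (1 : Matrix (Fin 2) (Fin 2) F)) ((-σ s) • 1) (a • 1) (A, B) =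
        (A, B) + (s * g v A) • ((z, 0) : U × U) + (s * g v B) • ((0, z) : U × U) +
          ((a * g v A - σ s * g z A) • v, 0) + (0, (a * g v B - σ s * g z B) • v) := by
      simp [el]
      constructor <;> module
    rw [e, map_add, map_add, map_add, map_add, map_smul, map_smul, hpq, hpq', hP, hQ, hv1 A B, hv2 A B, h3, h4, dp,
      dq, dp', dq']
    obtain ⟨P, Q⟩ := k.1 (A, B)
    simp only [el, Matrix.of_apply, Matrix.cons_val', Matrix.cons_val_zero, Matrix.cons_val_one,
      Matrix.empty_val', Matrix.cons_val_fin_one, Prod.smul_mk, Prod.mk_add_mk, Prod.mk.injEq, smul_smul, map_add,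
      LinearMap.add_apply, smul_left]
    constructor <;> module
  obtain ⟨a, G, hGK, eG⟩ := hG 1
  have hcomm := fun s => X.el_comm hv0 hv hvz hn hGK eG s
  have h01 : c01 = 0 := by
    have : l * σ c01 = 0 := X.eq_zero_of_trace fun s => by
      obtain ⟨h, -, -⟩ := hcomm s
      simp at h
      simp only [map_mul, hgi.invol]
      linear_combination h
    simpa [hl] using this
  have h10 : c10 = 0 := by
    have : δ * σ c10 = 0 := X.eq_zero_of_trace fun s => by
      obtain ⟨-, h, -⟩ := hcomm s
      simp at h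
      simp only [map_mul, hgi.invol]
      linear_combination h
    simpa [hδ] using this
  have hA : c00 * σ δ = c11 * σ l := by
    have : δ * σ c00 - l * σ c11 = 0 := X.eq_zero_of_trace fun s => by
      obtain ⟨-, -, h⟩ := hcomm s
      simp at h
      simp only [map_mul, map_sub, hgi.invol]
      linear_combination h
    have := congrArg σ this
    simp only [map_mul, map_sub, hgi.invol, map_zero] at this
    linear_combination this
  have hn0 : n01 = 0 ∧ n10 = 0 := by
    have key : ∀ s : F, (s * (σ l * n01) + σ (s * (σ l * n01)) = 0) ∧ (s * (σ δ * n10) + σ (s * (σ δ * n10)) = 0) := by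
      intro s
      obtain ⟨a, G, hGK, eG⟩ := hG s
      obtain ⟨a', e, he, ee⟩ := X.dia_el hv hvz (s * (c00 * σ δ))
      set T : Matrix (Fin 2) (Fin 2) F := !![a * l * σ δ + s * σ δ * n00 - σ s * l * σ n11 - a',
        s * σ l * n01 + σ s * l * σ n01; s * σ δ * n10 + σ s * δ * σ n10,
        a * δ * σ l + s * σ l * n11 - σ s * δ * σ n00 - a'] with hT
      have hA' : σ (c00 * σ δ) = δ * σ c00 := by rw [map_mul, hgi.invol, mul_comm]
      have hA'' : σ (c00 * σ δ) = l * σ c11 := by rw [hA, map_mul, hgi.invol, mul_comm]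
      obtain ⟨e10, e01, -⟩ := X.root_scalar hv0 hv (T := T) (K.mul_mem hGK (K.inv_mem he)) fun Y =>
        quot_apply (fun W => by
          rw [eG, ee, ← el_lr v z T, el_el hv hvz hzv, hT]
          congr 1
          · ext i j
            fin_cases i <;> fin_cases j <;> simp [h01, h10, hA]
          · ext i j
            fin_cases i <;> fin_cases j <;> simp [h01, h10, map_mul σ s, ← hA', ← hA''] <;> ring
          · ext i j
            fin_cases i <;> fin_cases j <;> simp) Y
      simp [hT] at e10 e01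
      simp only [map_mul, hgi.invol]
      exact ⟨by linear_combination e01, by linear_combination e10⟩
    exact ⟨by simpa [hσl, hl] using X.eq_zero_of_trace fun s => (key s).1,
      by simpa [hσδ, hδ] using X.eq_zero_of_trace fun s => (key s).2⟩
  obtain ⟨hn1, hn2⟩ := hn0
  have hq0 : q = 0 := by rw [dq, hn2, h10]; simp
  have hp0 : p' = 0 := by rw [dp', hn1, h01]; simp
  have hc0 : c00 ≠ 0 := by
    intro h
    have : k.1 (z, 0) = k.1 ((n00 / l) • v, 0) := by
      rw [hpq, hP, hq0, dp, h]
      simp [smul_smul, hl]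
    have := congrArg (fun Y : U × U => g z Y.1) (k.1.injective this)
    simp [smul_right, hzv] at this
    exact hn this
  -- normalise the image of `z`
  set x := σ (n00 / (c00 * g z z))
  obtain ⟨a, e, he, ee⟩ := X.dia_el hv hvz x
  have ev : ∀ c : F, e.1 (c • v, 0) = (c • v, 0) ∧ e.1 (0, c • v) = (0, c • v) := fun c => by
    simp [ee, el, smul_right, hv, hzv]
  set k₂ := e * k with hk₂
  have f0 : k₂.1 (v, 0) = (l • v, 0) := by rw [hk₂, mul_apply, e0, (ev l).1]
  have f1 : k₂.1 (0, v) = (0, δ • v) := by rw [hk₂, mul_apply, e1, (ev δ).2]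
  have f2 : k₂.1 (z, 0) = c00 • ((z, 0) : U × U) := by
    rw [hk₂, mul_apply, hpq, hq0, ee, dp]
    simp only [el, x, hgi.invol, map_zero, map_add, map_smul, smul_eq_mul, hv, hvz, hzv, Matrix.smul_apply,
      Matrix.one_apply_eq, Matrix.one_apply_ne (show (0 : Fin 2) ≠ 1 by decide),
      Matrix.one_apply_ne (show (1 : Fin 2) ≠ 0 by decide), mul_zero, zero_mul, add_zero, zero_add, mul_one,
      zero_smul, Prod.smul_mk, smul_zero, Prod.mk.injEq, and_true]
    match_scalars <;> field_simp <;> ring
  obtain ⟨hplane, hperp⟩ := X.plane_of_fix hn (K.mul_mem he hk) f2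
  obtain ⟨P, Q, hPQ⟩ : ∃ P Q, k₂.1 (v', 0) = (P, Q) := ⟨_, _, rfl⟩
  obtain ⟨P', Q', hPQ'⟩ : ∃ P Q, k₂.1 (0, v') = (P, Q) := ⟨_, _, rfl⟩
  obtain ⟨cz, dz, hz⟩ : ∃ a' b' : F, k₂.1 ((0 : F) • z, (1 : F) • z) = (a' • z, b' • z) := hplane 0 1
  rw [zero_smul, one_smul] at hz
  have hgv1 : ∀ A B, g v A = σ δ * g v (k₂.1 (A, B)).1 := fun A B => by
    have := HU.map_eq k₂ (0, v) (A, B)
    rw [f1, X.form_eq, X.form_eq] at this
    simp only [map_zero, LinearMap.zero_apply, smul_left] at this
    linear_combination mul_left_cancel₀ X.ne this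
  have hgv2 : ∀ A B, g v B = σ l * g v (k₂.1 (A, B)).2 := fun A B => by
    have := HU.map_eq k₂ (v, 0) (A, B)
    rw [f0, X.form_eq, X.form_eq] at this
    simp only [map_zero, LinearMap.zero_apply, smul_left] at this
    linear_combination -mul_left_cancel₀ X.ne this
  have hd2 : ∀ {x}, g z x = 0 → x = g v' x • v + g v x • v' := fun {x} hx => by
    conv_lhs => rw [hdec x, hx, zero_div, zero_smul, add_zero]
  have hzP := hperp v' 0 hzv' (map_zero _)
  have hzP' := hperp 0 v' (map_zero _) hzv'
  rw [hPQ] at hzP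
  rw [hPQ'] at hzP'
  have gP : g v P = (σ δ)⁻¹ := eq_inv_of_mul_eq_one_right (by have := hgv1 v' 0; rw [hPQ, h1] at this; exact this.symm)
  have gQ : g v Q = 0 := by have := hgv2 v' 0; rw [hPQ, map_zero] at this; simpa [hσl, hl] using this.symm
  have gP' : g v P' = 0 := by have := hgv1 0 v'; rw [hPQ', map_zero] at this; simpa [hσδ, hδ] using this.symm
  have gQ' : g v Q' = (σ l)⁻¹ := eq_inv_of_mul_eq_one_right (by have := hgv2 0 v'; rw [hPQ', h1] at this; exact this.symm)
  have hcz : cz = 0 := by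
    by_contra hne
    have hpr : k.1 (0, z) = (0, q') := by rw [hpq', hp0]
    have : (k₂.1 (0, z)).1 = 0 := by
      rw [hk₂, mul_apply, hpr, ee]
      simp [el, hq']
    rw [hz] at this
    exact (smul_ne_zero hne (fun h0 => hn (by rw [h0]; simp))) this
  have hdz : σ c00 * dz = 1 := by
    have h' := HU.map_eq k₂ (z, 0) (0, z)
    rw [hz, hcz, f2, X.form_eq, X.form_eq] at h'
    simp [smul_left, smul_right, X.ne] at h'
    exact mul_right_cancel₀ hn (by linear_combination h')
  set a' := g v' P
  set cq := g v' Q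
  set e' := g v' Q'
  set e0' := g v' P'
  have dP : P = a' • v + (σ δ)⁻¹ • v' := by rw [← gP]; exact hd2 hzP.1
  have dQ : Q = cq • v := by
    have := hd2 hzP.2
    rwa [gQ, zero_smul, add_zero] at this
  have dP' : P' = e0' • v := by
    have := hd2 hzP'.1
    rwa [gP', zero_smul, add_zero] at this
  have dQ' : Q' = e' • v + (σ l)⁻¹ • v' := by rw [← gQ']; exact hd2 hzP'.2
  have hk2 : ∀ A B, k₂.1 (A, B) =
      g v' A • ((l • v, 0) : U × U) + g v A • (P, Q) + (g z A / g z z) • (c00 • ((z, 0) : U × U)) +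
      (g v' B • ((0, δ • v) : U × U) + g v B • (P', Q') + (g z B / g z z) • ((0, dz • z) : U × U)) := fun A B => by
    have e : ((A, B) : U × U) = g v' A • ((v, 0) : U × U) + g v A • (v', 0) + (g z A / g z z) • (z, 0) +
        (g v' B • ((0 : U), v) + g v B • (0, v') + (g z B / g z z) • (0, z)) := by
      simp [← hdec A, ← hdec B]
    conv_lhs => rw [e]
    simp only [map_add, map_smul, f0, f1, f2, hPQ, hPQ', hz, hcz, zero_smul]
  -- conjugate the upper unipotent element
  have hkey : ∀ t : F, σ t = t → t * a' - t * l / δ * e' - t * (t * l / δ) * cq = 0 := by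
    intro t ht
    have ht' : σ (t * l / δ) = t * l / δ := by
      rw [map_div₀, map_mul, ht, div_eq_div_iff hσδ hδ]
      linear_combination t * hreal
    obtain ⟨m, hm, em⟩ := X.sl 1 t 0 1 (map_one σ) ht (map_zero σ) (map_one σ) (by ring)
    obtain ⟨m', hm', em'⟩ := X.sl 1 (-(t * l / δ)) 0 1 (map_one σ) (by rw [map_neg, ht']) (map_zero σ)
      (map_one σ) (by ring)
    set T : Matrix (Fin 2) (Fin 2) F := !![-(t * l / δ) * cq * σ δ, σ l * (t * a' - t * l / δ * e' - t * (t * l / δ) * cq);
      0, σ l * (t * cq)] with hT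
    have hdz' : t * c00 - t * l / δ * dz = 0 := by
      have e2 : σ δ * c00 = σ l * c11 := by linear_combination hA
      have hd' : dz = (σ c00)⁻¹ := eq_inv_of_mul_eq_one_right hdz
      have e3 : c00 * δ * σ c00 = l := by
        have h3 := HU.map_eq k (z, 0) (0, z)
        rw [hpq, hpq', hq0, hp0, X.form_eq, X.form_eq, dp, dq'] at h3
        simp [smul_left, smul_right, hv, hvz, hzv, X.ne] at h3
        have h4 : σ c00 * c11 = 1 := mul_right_cancel₀ hn (by linear_combination h3)
        refine mul_right_cancel₀ hσl ?_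
        linear_combination c00 * σ c00 * (hreal) + l * σ c00 * e2 + l * σ l * h4
      have hc' : σ c00 ≠ 0 := fun h => hc0 (IsInvol.apply_eq_zero_iff.1 h)
      rw [hd']
      field_simp
      linear_combination t * e3
    have hk' : m' * (k₂ * m) * k₂⁻¹ ∈ K :=
      K.mul_mem (K.mul_mem hm' (K.mul_mem (K.mul_mem he hk) hm)) (K.inv_mem (K.mul_mem he hk))
    obtain ⟨-, e01, -⟩ := X.root_scalar hv0 hv (T := T) hk' fun Y => quot_apply (fun W => by
      obtain ⟨A, B⟩ := W
      rw [mul_apply, mul_apply, em, hk2, hk2, dP, dQ, dP', dQ']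
      simp only [Prod.smul_mk, Prod.mk_add_mk, smul_zero, add_zero, zero_add, em', lr, hT, map_add, map_smul,
        smul_eq_mul, hv, hvz, h1, Matrix.of_apply, Matrix.cons_val', Matrix.cons_val_zero, Matrix.cons_val_one,
        Matrix.empty_val', Matrix.cons_val_fin_one, one_smul, zero_smul, Prod.mk.injEq, mul_zero, mul_one]
      constructor
      · match_scalars
        · field_simp; ring
        · field_simp; linear_combination (t * g v B) * hreal
        · linear_combination (g z B / g z z) * hdz'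
      · match_scalars <;> field_simp <;> ring) Y
    simp [hT, hl] at e01
    exact e01
  have hcq : cq = 0 := by
    obtain ⟨r, hr, hr0, hr1⟩ := X.exists_real
    have e2 := hkey r hr
    have e3 := hkey 1 (map_one σ)
    have : r * (r - 1) * (l / δ) * cq = 0 := by linear_combination -e2 + r * e3
    simpa [hr0, hl, hδ, sub_eq_zero, hr1] using this
  intro A
  have e2 : k₂.1 (A, 0) = ((k₂.1 (A, 0)).1, 0) := by
    rw [hk2, dQ, hcq]
    simp
  obtain ⟨P1, P2, hA'⟩ : ∃ P Q, k.1 (A, 0) = (P, Q) := ⟨_, _, rfl⟩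
  rw [hk₂, mul_apply, hA', ee] at e2
  have e3 := congrArg Prod.snd e2
  simp [el] at e3
  have h3 : g v P2 = 0 := by
    have := congrArg (g v) e3
    simp [smul_right, hv, hvz] at this
    exact this
  have h4 : g z P2 = 0 := by
    have := congrArg (g z) e3
    simp [smul_right, hzv, h3] at this
    exact this
  rw [hA']
  simpa [h3, h4] using e3

/-- An element fixing an isotropic point of the first half stabilises that half. -/
theorem stab_of_iso {v : U} (hv0 : v ≠ 0) (hv : g v v = 0) {k : HU H} (hk : k ∈ K) {l : F}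
    (e0 : k.1 (v, 0) = l • ((v, 0) : U × U)) : Stab k := by
  obtain ⟨v', z, h1, h1', h2, hvz, hzv, hvz', hzv', hn, hdec⟩ := X.exists_frame hv0 hv
  have hgi := X.hg.invol
  rw [Prod.smul_mk, smul_zero] at e0
  have hl : l ≠ 0 := fun h => hv0 (by
    have e1 : k.1 (v, 0) = 0 := by rw [e0, h]; simp
    simpa using (LinearEquiv.map_eq_zero_iff _).1 e1)
  have hσl : σ l ≠ 0 := fun h => hl (IsInvol.apply_eq_zero_iff.1 h)
  obtain ⟨r1, r2, hr⟩ : ∃ a b, k.1 (0, v) = (a, b) := ⟨_, _, rfl⟩
  have hr2v : g r2 v = 0 := X.hg.eq_zero_symm (by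
    have := HU.map_eq k (v, 0) (0, v)
    rw [e0, hr, X.form, X.form] at this
    simpa [X.ne, smul_left, hv, hl] using this)
  obtain ⟨c, hc0, hc⟩ := X.hg.exists_skew
  obtain ⟨T, hT, eT⟩ := X.dia_tr hv hc
  set G := k * T * k⁻¹
  have hG : G ∈ K := K.mul_mem (K.mul_mem hk hT) (K.inv_mem hk)
  have eG : ∀ A B, G.1 (A, B) =
      (A + (c * l * (g r2 A - g r1 B)) • v + (c * σ l * g v B) • r1, B + (c * σ l * g v B) • r2) := by
    intro A B
    refine quot_apply (φ := fun Z => (Z.1 + (c * l * (g r2 Z.1 - g r1 Z.2)) • v + (c * σ l * g v Z.2) • r1,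
      Z.2 + (c * σ l * g v Z.2) • r2)) (fun W => ?_) (A, B)
    obtain ⟨A, B⟩ := W
    have h3 : g v A = g r2 (k.1 (A, B)).1 - g r1 (k.1 (A, B)).2 := by
      have := HU.map_eq k (0, v) (A, B)
      rw [hr, X.form_eq, X.form_eq] at this
      simp only [map_zero, LinearMap.zero_apply] at this
      linear_combination mul_left_cancel₀ X.ne this
    have h4 : g v B = σ l * g v (k.1 (A, B)).2 := by
      have := HU.map_eq k (v, 0) (A, B)
      rw [e0, X.form_eq, X.form_eq] at this
      simp only [map_zero, LinearMap.zero_apply, smul_left] at this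
      linear_combination -mul_left_cancel₀ X.ne this
    rw [mul_apply, eT]
    have e : ((A + (c * g v A) • v, B + (c * g v B) • v) : U × U) =
        (A, B) + (c * g v A) • ((v, 0) : U × U) + (c * g v B) • ((0, v) : U × U) := by simp
    rw [e, map_add, map_add, map_smul, map_smul, e0, hr, h3, h4]
    obtain ⟨P, Q⟩ := k.1 (A, B)
    simp only [Prod.smul_mk, Prod.mk_add_mk, Prod.mk.injEq]
    constructor <;> module
  -- the second coordinate
  obtain ⟨m, hm, em⟩ := X.sl 1 1 0 1 (map_one σ) (map_one σ) (map_zero σ) (map_one σ) (by ring)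
  simp only [one_smul, zero_smul, zero_add] at em
  set k' := (m * G) * (G * m)⁻¹ with hk'
  have ek' : ∀ Y, k'.1 (G.1 (m.1 Y)) = m.1 (G.1 Y) := fun Y =>
    (mul_apply k' (G * m) Y).symm.trans (by rw [hk', inv_mul_cancel_right]; rfl)
  obtain ⟨l', hl'⟩ := X.mk_sg (k := k') (K.mul_mem (K.mul_mem hm hG) (K.inv_mem (K.mul_mem hG hm)))
    (fun A => by
      have := ek' (A - (c * l * g r2 A) • v, 0)
      simpa [em, eG, hr2v, map_sub, smul_right, hv] using this)
    (fun B => by
      obtain ⟨Y, hY⟩ := (G * m).1.surjective (0, B)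
      obtain ⟨A', B'⟩ := Y
      have e := congrArg Prod.snd (ek' (A', B'))
      rw [mul_apply] at hY
      rw [hY, eG, em] at e
      rw [em, eG] at hY
      exact e.trans (congrArg Prod.snd hY))
  have key : ∀ B, (c * l * g r2 B) • v + l' • (B + (c * σ l * g v B) • r2) = (c * σ l * g v B) • r2 := fun B => by
    have := congrArg Prod.fst (ek' (0, B))
    rw [em, zero_add, eG, eG, hl', em] at this
    simp only [map_zero, zero_sub, mul_neg, neg_smul] at this
    linear_combination (norm := module) this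
  have hl'0 : l' = 0 := by
    have := congrArg (g z) (key z)
    simp [smul_right, hvz, hzv, hn] at this
    exact this
  have hr2 : r2 = (l * g r2 v' / σ l) • v := by
    have := key v'
    rw [hl'0, zero_smul, add_zero, h1, mul_one] at this
    refine smul_right_injective _ (mul_ne_zero hc0 hσl) ?_
    show (c * σ l) • r2 = (c * σ l) • (l * g r2 v' / σ l) • v
    rw [← this, smul_smul]
    congr 1
    field_simp
  obtain ⟨δ, hr2, hreal⟩ : ∃ δ, r2 = δ • v ∧ σ l * δ = l * σ δ := by
    refine ⟨_, hr2, ?_⟩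
    have h := congrArg (fun x => g x v') hr2
    simp only [smul_left, h1, mul_one] at h
    rw [← h]
    field_simp
  subst hr2
  have eG' : ∀ A B, G.1 (A, B) =
      (A + (c * (σ l * δ) * g v A - c * l * g r1 B) • v + (c * σ l * g v B) • r1, B + (c * (σ l * δ) * g v B) • v) := by
    intro A B
    rw [eG, smul_left, hreal]
    simp only [Prod.mk.injEq]
    constructor
    · module
    · rw [← hreal]; module
  -- the first coordinate is orthogonal to `v`
  have hr1v : g v r1 = 0 := by
    have hvx : g v z = 0 := hvz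
    obtain ⟨a, e, he, ee⟩ := X.dia_el hv hvx 1
    have ee' : ∀ A B, e.1 (A, B) = (A + g v A • z + (a * g v A - g z A) • v, B + g v B • z + (a * g v B - g z B) • v) := by
      intro A B
      simp [ee, el]
      constructor <;> module
    have hsnd : ∀ W, (G.1 (e.1 W)).2 = (e.1 (G.1 W)).2 := fun W => by
      obtain ⟨A, B⟩ := W
      simp only [ee', eG', map_add, map_smul, smul_eq_mul, hv, hvz, hzv]
      module
    have hfst : ∀ A, G.1 (e.1 (A, 0)) = e.1 (G.1 (A, 0)) := fun A => by
      simp only [ee', eG', map_add, map_smul, smul_eq_mul, hv, hvz, hzv, map_zero, Prod.mk.injEq]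
      constructor <;> module
    set k' := (e * G) * (G * e)⁻¹ with hk'
    have ek' : ∀ Y, k'.1 (G.1 (e.1 Y)) = e.1 (G.1 Y) := fun Y =>
      (mul_apply k' (G * e) Y).symm.trans (by rw [hk', inv_mul_cancel_right]; rfl)
    have hinj : ∀ {B x : U} {a b : F}, B + a • x + b • v = 0 → g v x = 0 → (g v B = 0) := fun {B x a b} h0 hx => by
      have := congrArg (g v) h0
      simpa [smul_right, hx, hv] using this
    obtain ⟨l', hl'⟩ := X.mk_sg (k := k') (K.mul_mem (K.mul_mem he hG) (K.inv_mem (K.mul_mem hG he)))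
      (fun A => by
        obtain ⟨Y, hY⟩ := (G * e).1.surjective (A, 0)
        obtain ⟨A', B'⟩ := Y
        rw [mul_apply] at hY
        have h0 := congrArg Prod.snd hY
        rw [ee', eG'] at h0
        simp only [map_add, map_smul, smul_eq_mul, hv, hvz, mul_zero, add_zero] at h0
        have hB : g v B' = 0 := by
          have := congrArg (g v) h0
          simpa [smul_right, hvz, hv] using this
        simp only [hB, mul_zero, zero_smul, add_zero, zero_sub, zero_mul, neg_smul] at h0
        have hzB : g z B' = 0 := by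
          have := congrArg (g z) h0
          simpa [smul_right, hzv] using this
        rw [hzB, zero_smul, neg_zero, add_zero] at h0
        subst h0
        have e := ek' (A', 0)
        rw [hY, ← hfst A', hY] at e
        exact e)
      (fun B => by
        obtain ⟨Y, hY⟩ := (G * e).1.surjective (0, B)
        rw [mul_apply] at hY
        have e := congrArg Prod.snd (ek' Y)
        rw [hY, ← hsnd, hY] at e
        exact e)
    have := congrArg Prod.fst (ek' (0, z))
    simp only [ee', eG', hl', map_zero, hvz, hv, hzv, mul_zero, sub_zero, zero_sub, zero_smul, add_zero, zero_add,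
      neg_smul, map_add, map_smul, map_neg, smul_eq_mul, neg_zero] at this
    have hl0 : l' = 0 := by
      have := congrArg (g z) this
      simpa [smul_right, hzv, hn] using this
    rw [hl0, zero_smul, add_zero] at this
    have := congrArg (g v') this
    simp [smul_right, h1', mul_add, hc0, hl, hn] at this
    exact X.hg.eq_zero_symm this
  set β := g v' r1
  set b := g z r1 / g z z
  have hr1 : r1 = β • v + b • z := by
    conv_lhs => rw [hdec r1, hr1v, zero_smul, add_zero]
  set R : Matrix (Fin 2) (Fin 2) F := !![0, -(c * l * σ b); 0, 0] with hR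
  set M : Matrix (Fin 2) (Fin 2) F := !![0, c * σ l * b; 0, 0] with hM
  set T' : Matrix (Fin 2) (Fin 2) F :=
    !![c * (σ l * δ), c * σ l * β - c * l * σ β; 0, c * (σ l * δ)] with hT'
  have eel : ∀ Y, G.1 Y = el g v z M R T' Y := by
    rintro ⟨A, B⟩
    rw [eG', hr1]
    simp only [el, hM, hR, hT', Matrix.of_apply, Matrix.cons_val', Matrix.cons_val_zero, Matrix.cons_val_one,
      Matrix.empty_val', Matrix.cons_val_fin_one, Prod.mk.injEq, map_add, LinearMap.add_apply, smul_left]
    constructor <;> module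
  have hb : b = 0 := by
    have : l * σ b = 0 := X.eq_zero_of_fixed fun s => by
      obtain ⟨h, -, -⟩ := X.el_comm hv0 hv hvz hn hG eel s
      simp [hM, hR] at h
      simp only [map_mul, hgi.invol]
      exact mul_left_cancel₀ hc0 (by linear_combination h)
    simpa [hl] using this
  obtain ⟨-, h01, -⟩ := X.root_scalar hv0 hv (T := T') hG fun Y => by
    rw [eel, ← el_lr v z T', show M = 0 by rw [hM, hb]; ext i j; fin_cases i <;> fin_cases j <;> simp,
      show R = 0 by rw [hR, hb]; ext i j; fin_cases i <;> fin_cases j <;> simp]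
  have hβ : σ l * β = l * σ β := by
    simp [hT'] at h01
    exact mul_left_cancel₀ hc0 (by linear_combination h01)
  rw [hb, zero_smul, add_zero] at hr1
  have hδ : δ ≠ 0 := by
    rintro rfl
    have : k.1 (0, v) = k.1 ((β / l) • v, 0) := by
      rw [hr, hr1, show ((((β / l) • v), 0) : U × U) = (β / l) • (v, 0) by simp, map_smul, e0]
      simp [smul_smul, hl]
    exact hv0 (congrArg Prod.snd (k.1.injective this))
  have ht : σ (β / δ) = β / δ := by
    have hσδ : σ δ ≠ 0 := fun h => hδ (IsInvol.apply_eq_zero_iff.1 h)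
    rw [map_div₀, div_eq_div_iff hσδ hδ]
    refine mul_left_cancel₀ hl ?_
    linear_combination (-δ) * hβ + β * hreal
  obtain ⟨m', hm', em'⟩ := X.sl 1 (-(β / δ)) 0 1 (map_one σ) (by rw [map_neg, ht]) (map_zero σ) (map_one σ) (by ring)
  have hs := X.stab_of_line hv0 hv (K.mul_mem hm' hk) (l := l) (δ := δ)
    (by rw [mul_apply, e0, em']; simp)
    (by rw [mul_apply, hr, hr1, em']; simp [smul_smul, hδ]) hl hδ hreal
  intro A
  have := hs A
  rw [mul_apply, show k.1 (A, 0) = ((k.1 (A, 0)).1, (k.1 (A, 0)).2) from rfl, em'] at this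
  simpa using this

end Ctx

end CfsgLib.Geo.UnitTensorTwo
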