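/-
Elements fixing a plane pointwise and mapping the root line to a line meeting a real half.
-/
import Cfsg.Agent.Lib.Geo.UnitTensorTwo.Fix

set_option autoImplicit false
set_option linter.unusedSectionVars false

namespace CfsgLib.Geo.UnitTensorTwo

open CfsgLib.Classical CfsgLib.Classical.Herm CfsgLib.Geo.UnitMax

variable {F : Type*} [Field F] {U : Type*} [AddCommGroup U] [Module F U] {σ : F →+* F}
  {g : U →ₛₗ[σ] U →ₗ[F] F} {H : U × U →ₛₗ[σ] U × U →ₗ[F] F}

variable [Finite F] [FiniteDimensional F U]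

/-- The element fixes the plane of a vector pointwise and preserves the perpendicular space. -/
structure Fixes (g : U →ₛₗ[σ] U →ₗ[F] F) (u : U) (k : HU H) : Prop where
  fix : ∀ a b : F, k.1 (a • u, b • u) = (a • u, b • u)
  perp : ∀ A B : U, g u A = 0 → g u B = 0 → g u (k.1 (A, B)).1 = 0 ∧ g u (k.1 (A, B)).2 = 0

namespace Ctx

variable {ζ : F} {K : Subgroup (HU H)} (X : Ctx g H ζ K)
include X

/-- A non-zero vector orthogonal to two given ones. -/
theorem exists_orth (x y : U) : ∃ z : U, z ≠ 0 ∧ g x z = 0 ∧ g y z = 0 := by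
  let L : U →ₗ[F] F × F := (g x).prod (g y)
  have hni : ¬ Function.Injective L := fun h => by
    have := LinearMap.finrank_le_finrank_of_injective h
    rw [X.dim, Module.finrank_prod, Module.finrank_self] at this
    omega
  rw [injective_iff_map_eq_zero] at hni
  push Not at hni
  obtain ⟨z, hz, hz0⟩ := hni
  exact ⟨z, hz0, congrArg Prod.fst hz, congrArg Prod.snd hz⟩

/-- A stabiliser of the first half fixing a plane pointwise is diagonal. -/
theorem fix_dia {u : U} (hu : u ≠ 0) {k : HU H} (hk : k ∈ K) (hfix : ∀ a b : F, k.1 (a • u, b • u) = (a • u, b • u))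
    (hs : Stab k) : ∃ Φ : U →ₗ[F] U, ∀ A B : U, k.1 (A, B) = (Φ A, Φ B) := by
  obtain ⟨Φ, a, b, c, d, e⟩ := X.stab_kr hk hs
  have e0 : k.1 (u, 0) = (u, 0) := by simpa using hfix 1 0
  have e1 : k.1 (0, u) = (0, u) := by simpa using hfix 0 1
  rw [e] at e0 e1
  simp only [map_zero, smul_zero, add_zero, zero_add, Prod.mk.injEq] at e0 e1
  have hΦ : Φ u ≠ 0 := fun h => hu (by rw [← e0.1, h, smul_zero])
  have hb : b = 0 := (smul_eq_zero.1 e1.1).resolve_right hΦ
  have hc : c = 0 := (smul_eq_zero.1 e0.2).resolve_right hΦ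
  have had : a = d := smul_left_injective F hΦ (e0.1.trans e1.2.symm)
  refine ⟨a • Φ, fun A B => ?_⟩
  rw [e, hb, hc, had]
  simp

/-- The case of the image of the root line meeting the first half. -/
theorem stab_of_meet {u v : U} (hn : g u u ≠ 0) (hv0 : v ≠ 0) (hv : g v v = 0) (hvu : g v u = 0) {k : HU H}
    (hk : k ∈ K) (hf : Fixes g u k) {a b : F} (hab : a ≠ 0 ∨ b ≠ 0) (he : (k.1 (a • v, b • v)).2 = 0) : Stab k := by
  have hu0 : u ≠ 0 := fun h => hn (by rw [h]; simp)
  have huv := X.hg.eq_zero_symm hvu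
  obtain ⟨p1, q1, h1⟩ : ∃ P Q, k.1 (v, 0) = (P, Q) := ⟨_, _, rfl⟩
  obtain ⟨p2, q2, h2⟩ : ∃ P Q, k.1 (0, v) = (P, Q) := ⟨_, _, rfl⟩
  have o1 := hf.perp v 0 huv (map_zero _)
  have o2 := hf.perp 0 v (map_zero _) huv
  rw [h1] at o1
  rw [h2] at o2
  obtain ⟨o1, o1'⟩ : g p1 u = 0 ∧ g q1 u = 0 := ⟨X.hg.eq_zero_symm o1.1, X.hg.eq_zero_symm o1.2⟩
  obtain ⟨o2, o2'⟩ : g p2 u = 0 ∧ g q2 u = 0 := ⟨X.hg.eq_zero_symm o2.1, X.hg.eq_zero_symm o2.2⟩
  have hlin : ∀ a b : F, k.1 (a • v, b • v) = (a • p1 + b • p2, a • q1 + b • q2) := fun a b => by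
    rw [show ((a • v, b • v) : U × U) = a • (v, 0) + b • (0, v) by simp, map_add, map_smul, map_smul, h1, h2]
    simp
  rw [hlin] at he
  obtain ⟨c, hc0, hc⟩ := X.hg.exists_skew
  obtain ⟨T, hT, eT⟩ := X.dia_tr hv hc
  set T' := k * T * k⁻¹
  have hT' : T' ∈ K := K.mul_mem (K.mul_mem hk hT) (K.inv_mem hk)
  have eT' : ∀ A B, T'.1 (A, B) = (A + (c * (g q2 A - g p2 B)) • p1 + (c * (g p1 B - g q1 A)) • p2,
      B + (c * (g q2 A - g p2 B)) • q1 + (c * (g p1 B - g q1 A)) • q2) := by
    intro A B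
    refine quot_apply (φ := fun Z => (Z.1 + (c * (g q2 Z.1 - g p2 Z.2)) • p1 + (c * (g p1 Z.2 - g q1 Z.1)) • p2,
      Z.2 + (c * (g q2 Z.1 - g p2 Z.2)) • q1 + (c * (g p1 Z.2 - g q1 Z.1)) • q2)) (fun W => ?_) (A, B)
    obtain ⟨A, B⟩ := W
    have h3 : g v A = g q2 (k.1 (A, B)).1 - g p2 (k.1 (A, B)).2 := by
      have := HU.map_eq k (0, v) (A, B)
      rw [h2, X.form_eq, X.form_eq] at this
      simp only [map_zero, LinearMap.zero_apply] at this
      linear_combination mul_left_cancel₀ X.ne this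
    have h4 : g v B = g p1 (k.1 (A, B)).2 - g q1 (k.1 (A, B)).1 := by
      have := HU.map_eq k (v, 0) (A, B)
      rw [h1, X.form_eq, X.form_eq] at this
      simp only [map_zero, LinearMap.zero_apply] at this
      linear_combination -mul_left_cancel₀ X.ne this
    rw [mul_apply, eT]
    have e : ((A + (c * g v A) • v, B + (c * g v B) • v) : U × U) =
        (A, B) + (c * g v A) • ((v, 0) : U × U) + (c * g v B) • ((0, v) : U × U) := by simp
    rw [e, map_add, map_add, map_smul, map_smul, h1, h2, h3, h4]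
    obtain ⟨P, Q⟩ := k.1 (A, B)
    simp [add_assoc]
  -- a fixed isotropic point of the first half
  obtain ⟨z', hz0, hzu, hz1, hz2⟩ : ∃ z', z' ≠ 0 ∧ g u z' = 0 ∧ g q1 z' = 0 ∧ g q2 z' = 0 := by
    have e0 : a • q1 + b • q2 = 0 := he
    by_cases hb : b = 0
    · obtain ⟨z', hz0, hzu, hz2⟩ := X.exists_orth u q2
      have hq1 : q1 = 0 := by
        rw [hb, zero_smul, add_zero] at e0
        exact (smul_eq_zero.1 e0).resolve_left (hab.resolve_right (not_not.2 hb))
      exact ⟨z', hz0, hzu, by rw [hq1]; simp, hz2⟩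
    · obtain ⟨z', hz0, hzu, hz1⟩ := X.exists_orth u q1
      refine ⟨z', hz0, hzu, hz1, ?_⟩
      have hq2 : q2 = (-(a / b)) • q1 := by
        apply smul_right_injective _ hb
        show b • q2 = b • ((-(a / b)) • q1)
        rw [smul_smul, mul_neg, mul_div_cancel₀ _ hb, neg_smul]
        exact eq_neg_of_add_eq_zero_right e0
      rw [hq2, smul_left, hz1, mul_zero]
  obtain ⟨s, hs⟩ := X.hg.invol.exists_norm_eq (μ := -g z' z' / g u u)
    (by rw [map_div₀, map_neg, X.hg.self_fixed, X.hg.self_fixed])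
  set w0 := s • u + z' with hw0
  have hw00 : w0 ≠ 0 := fun h => by
    have h' := congrArg (g u) h
    rw [hw0, map_add, smul_right, hzu, map_zero, add_zero] at h'
    rw [hw0, (mul_eq_zero.1 h').resolve_right hn, zero_smul, zero_add] at h
    exact hz0 h
  have hw0i : g w0 w0 = 0 := by
    have hzu' := X.hg.eq_zero_symm hzu
    simp only [hw0, map_add, LinearMap.add_apply, smul_left, smul_right, hzu, hzu']
    field_simp at hs
    linear_combination hs
  have hfix0 : ∀ w, g q1 w = 0 → g q2 w = 0 → T'.1 (w, 0) = (w, 0) := fun w e e' => by simp [eT', e, e']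
  have hS : Stab T' := X.stab_of_iso hw00 hw0i hT' (l := 1) (by
    rw [one_smul]
    exact hfix0 w0 (by rw [hw0, map_add, smul_right, o1', hz1]; ring) (by rw [hw0, map_add, smul_right, o2', hz2]; ring))
  obtain ⟨Φ, hΦ⟩ := X.fix_dia hu0 hT' (fun α β => by simp [eT', smul_right, o1, o1', o2, o2']) hS
  -- the line is a root line
  obtain ⟨y, hy⟩ := X.hg.exists_apply_eq_one hv0
  have hTy : T'.1 (k.1 (y, 0)) = k.1 (y, 0) + c • ((p1, q1) : U × U) := by
    rw [← mul_apply, inv_mul_cancel_right, mul_apply, eT, hy, mul_one, map_zero, mul_zero, zero_smul, add_zero,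
      show ((y + c • v, (0 : U)) : U × U) = (y, 0) + c • (v, 0) by simp, map_add, map_smul, h1]
  obtain ⟨A0, hA0⟩ : ∃ A, Φ A - A ≠ 0 := by
    by_contra! hall
    have hid : ∀ Y : U × U, T'.1 Y = Y := fun Y => by
      obtain ⟨A, B⟩ := Y
      rw [hΦ, sub_eq_zero.1 (hall A), sub_eq_zero.1 (hall B)]
    rw [hid, left_eq_add, smul_eq_zero] at hTy
    have e0 : k.1 (v, 0) = 0 := by rw [h1]; exact hTy.resolve_left hc0
    exact hv0 (by simpa using (LinearEquiv.map_eq_zero_iff _).1 e0)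
  set w := Φ A0 - A0 with hw
  have ea : k.1 ((c * g q2 A0) • v, (-(c * g q1 A0)) • v) = (w, 0) := by
    have := hΦ A0 0
    rw [eT', map_zero, Prod.mk.injEq] at this
    rw [hlin, hw, ← this.1]
    simp only [map_zero, sub_zero, zero_sub, mul_neg, zero_add] at this ⊢
    exact Prod.ext (by dsimp only; module) this.2
  have eb : k.1 ((-(c * g p2 A0)) • v, (c * g p1 A0) • v) = (0, w) := by
    have := hΦ 0 A0
    rw [eT', map_zero, Prod.mk.injEq] at this
    rw [hlin, hw, ← this.2]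
    simp only [map_zero, sub_zero, zero_sub, mul_neg, zero_add] at this ⊢
    exact Prod.ext this.1 (by dsimp only; module)
  set a1 := c * g q2 A0
  set a2 := -(c * g q1 A0)
  set b1 := -(c * g p2 A0)
  set b2 := c * g p1 A0
  have hw1 : g w w = 0 := by
    have := HU.map_eq k (a1 • v, a2 • v) (b1 • v, b2 • v)
    rw [ea, eb, X.form, X.form] at this
    simp [smul_left, smul_right, hv, X.ne] at this
    exact this
  have hwu : g w u = 0 := by
    have := (hf.perp (a1 • v) (a2 • v) (by rw [smul_right, huv, mul_zero]) (by rw [smul_right, huv, mul_zero])).1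
    rw [ea] at this
    exact X.hg.eq_zero_symm this
  set D := a1 * b2 - a2 * b1
  have ecomb : ∀ s t : F, k.1 ((s * a1 + t * b1) • v, (s * a2 + t * b2) • v) = (s • w, t • w) := fun s t => by
    have : (((s * a1 + t * b1) • v, (s * a2 + t * b2) • v) : U × U) =
        s • ((a1 • v, a2 • v) : U × U) + t • ((b1 • v, b2 • v) : U × U) := by simp [add_smul, smul_smul]
    rw [this, map_add, map_smul, map_smul, ea, eb]
    simp
  have hD : D ≠ 0 := fun hD0 => by
    have e2 := ecomb b2 (-a2)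
    rw [show b2 * a1 + -a2 * b1 = D by ring, show b2 * a2 + -a2 * b2 = 0 by ring, hD0, zero_smul,
      show ((0, 0) : U × U) = 0 from rfl, map_zero] at e2
    have e3 := ecomb b1 (-a1)
    rw [show b1 * a1 + -a1 * b1 = 0 by ring, show b1 * a2 + -a1 * b2 = -D by ring, hD0, neg_zero, zero_smul,
      show ((0, 0) : U × U) = 0 from rfl, map_zero] at e3
    have ha2 : a2 = 0 := by simpa [hA0] using congrArg Prod.snd e2.symm
    have ha1 : a1 = 0 := by simpa [hA0] using congrArg Prod.snd e3.symm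
    rw [ha1, ha2, zero_smul, show ((0, 0) : U × U) = 0 from rfl, map_zero] at ea
    exact hA0 (congrArg Prod.fst ea.symm)
  have x1 : k.1 (v, 0) = ((b2 / D) • w, (-a2 / D) • w) := by
    have := ecomb (b2 / D) (-a2 / D)
    rwa [show b2 / D * a1 + -a2 / D * b1 = 1 by field_simp; ring, show b2 / D * a2 + -a2 / D * b2 = 0 by ring,
      one_smul, zero_smul] at this
  have x2 : k.1 (0, v) = ((-b1 / D) • w, (a1 / D) • w) := by
    have := ecomb (-b1 / D) (a1 / D)
    rwa [show -b1 / D * a1 + a1 / D * b1 = 0 by ring, show -b1 / D * a2 + a1 / D * b2 = 1 by field_simp; ring,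
      one_smul, zero_smul] at this
  obtain ⟨-, hγ, -⟩ := X.scalar_on_line hn hv hvu hA0 hw1 hwu hk hf.fix x1 x2
  rw [hγ, zero_smul] at x1
  have hα : b2 / D ≠ 0 := fun h => by
    rw [h, zero_smul] at x1
    exact hv0 (by simpa using (LinearEquiv.map_eq_zero_iff _).1 x1)
  obtain ⟨τ, eτ, m, hm, em⟩ := X.exists_move (smul_ne_zero hα hA0) hv0 (by rw [IsHerm.smul_self, hw1, mul_zero]) hv
  have := X.stab_of_iso hv0 hv (K.mul_mem hm hk) (l := 1) (by rw [mul_apply, x1, em, eτ, map_zero, one_smul])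
  intro A
  have h := this A
  rw [mul_apply, show k.1 (A, 0) = ((k.1 (A, 0)).1, (k.1 (A, 0)).2) from rfl, em] at h
  exact (LinearEquiv.map_eq_zero_iff _).1 h

/-- The case of the image of the root line meeting a real half. -/
theorem stab_of_real {u v : U} (hn : g u u ≠ 0) (hv0 : v ≠ 0) (hv : g v v = 0) (hvu : g v u = 0) {k : HU H}
    (hk : k ∈ K) (hf : Fixes g u k) {a b l : F} {w : U} (hw : w ≠ 0) (hl : σ l = l)
    (he : k.1 (a • v, b • v) = (l • w, w)) : Stab k := by
  have hu0 : u ≠ 0 := fun h => hn (by rw [h]; simp)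
  obtain ⟨s, hs, es⟩ := X.sl 0 1 (-1) l (map_zero σ) (map_one σ) (by rw [map_neg, map_one]) hl (by ring)
  have es' : ∀ A B, (s⁻¹).1 (A, B) = (l • A - B, A) := fun A B => inv_apply (by
    rw [es]
    simp only [zero_smul, zero_add, one_smul, Prod.mk.injEq, true_and]
    module)
  set k' := s * k * s⁻¹ with hk'
  have hk'm : k' ∈ K := K.mul_mem (K.mul_mem hs hk) (K.inv_mem hs)
  have hf' : Fixes g u k' := by
    refine ⟨fun α β => ?_, fun A B hA hB => ?_⟩
    · rw [hk', mul_apply, mul_apply, es', show ((l • α • u - β • u, α • u) : U × U) = ((l * α - β) • u, α • u) by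
        simp [sub_smul, smul_smul], hf.fix, es]
      simp only [Prod.mk.injEq]
      constructor <;> module
    · rw [hk', mul_apply, mul_apply, es']
      obtain ⟨e1, e2⟩ := hf.perp (l • A - B) A (by rw [map_sub, smul_right, hA, hB]; ring) hA
      rw [show k.1 (l • A - B, A) = ((k.1 (l • A - B, A)).1, (k.1 (l • A - B, A)).2) from rfl, es]
      simp [smul_right, e1, e2]
  have hab : b ≠ 0 ∨ -a + l * b ≠ 0 := by
    by_contra! h
    obtain ⟨hb, ha⟩ := h
    rw [hb] at ha
    rw [hb, show a = 0 by linear_combination -ha, zero_smul, show ((0, 0) : U × U) = 0 from rfl, map_zero] at he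
    exact hw (congrArg Prod.snd he).symm
  obtain ⟨Φ, hΦ⟩ := X.fix_dia hu0 hk'm hf'.fix (X.stab_of_meet hn hv0 hv hvu hk'm hf' hab (by
    rw [hk', mul_apply, mul_apply, es',
      show l • b • v - (-a + l * b) • v = a • v by module, he, es]
    simp))
  intro A
  have e : k'.1 (s.1 (A, 0)) = s.1 (k.1 (A, 0)) := by
    rw [← mul_apply, hk', inv_mul_cancel_right]; rfl
  rw [es, hΦ] at e
  rw [show k.1 (A, 0) = ((k.1 (A, 0)).1, (k.1 (A, 0)).2) from rfl, es] at e
  simp at e
  exact e.1.symm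

end Ctx

end CfsgLib.Geo.UnitTensorTwo
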