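/-
The case of the image of the root line meeting two conjugate halves.
-/
import Cfsg.Agent.Lib.Geo.UnitTensorTwo.Line

set_option autoImplicit false
set_option linter.unusedSectionVars false

namespace CfsgLib.Geo.UnitTensorTwo

open CfsgLib.Classical CfsgLib.Classical.Herm CfsgLib.Geo.UnitMax

variable {F : Type*} [Field F] {U : Type*} [AddCommGroup U] [Module F U] {σ : F →+* F}
  {g : U →ₛₗ[σ] U →ₗ[F] F} {H : U × U →ₛₗ[σ] U × U →ₗ[F] F}

/-- The first coordinate with respect to the conjugate halves. -/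
def pr (σ : F →+* F) (l : F) (Z : U × U) : U := (l - σ l)⁻¹ • (Z.1 - σ l • Z.2)

/-- A product of root elements at two conjugate halves. -/
def two (g : U →ₛₗ[σ] U →ₗ[F] F) (l : F) (w1 w2 : U) (d : Matrix (Fin 2) (Fin 2) F) (Z : U × U) : U × U :=
  Z + (d 0 0 * g w1 (pr σ l Z) + d 0 1 * g w2 (pr σ (σ l) Z)) • ((l • w1, w1) : U × U) +
    (d 1 0 * g w1 (pr σ l Z) + d 1 1 * g w2 (pr σ (σ l) Z)) • ((σ l • w2, w2) : U × U)

variable [Finite F] [FiniteDimensional F U]

namespace Ctx

variable {ζ : F} {K : Subgroup (HU H)} (X : Ctx g H ζ K)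
include X

/-- Quadratic equations over the fixed field have roots. -/
theorem exists_root {t m : F} (ht : σ t = t) (hm : σ m = m) : ∃ x : F, x * x + t * x = m := by
  classical
  by_cases h2 : (2 : F) = 0 ∧ t = 0
  · obtain ⟨h2, rfl⟩ := h2
    have : CharP F 2 := CharTwo.of_one_ne_zero_of_two_eq_zero one_ne_zero h2
    obtain ⟨p, hp⟩ := (bijective_frobenius F 2).2 m
    rw [frobenius_def, sq] at hp
    exact ⟨p, by rw [zero_mul, add_zero, hp]⟩
  haveI : Fintype F := Fintype.ofFinite F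
  have hgi := X.hg.invol
  set R := Finset.univ.filter (fun x : F => σ x = x) with hR
  set T := Finset.univ.filter (fun x : F => x + σ x = -t) with hT
  have hTR : T.card = R.card := by
    obtain ⟨x0, hx0⟩ := hgi.exists_trace_eq (μ := -t) (by rw [map_neg, ht])
    obtain ⟨θ, hθ0, hθ⟩ := hgi.exists_skew
    refine (Finset.card_bij (fun r _ => x0 + r * θ) ?_ ?_ ?_).symm
    · intro r hr
      simp only [hR, hT, Finset.mem_filter, Finset.mem_univ, true_and] at hr ⊢
      rw [map_add, map_mul, hr, hθ]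
      linear_combination hx0
    · intro a _ b _ hab
      exact mul_right_cancel₀ hθ0 (add_left_cancel hab)
    · intro y hy
      simp only [hT, Finset.mem_filter, Finset.mem_univ, true_and] at hy
      refine ⟨(y - x0) / θ, ?_, by rw [div_mul_cancel₀ _ hθ0, add_sub_cancel]⟩
      simp only [hR, Finset.mem_filter, Finset.mem_univ, true_and]
      rw [map_div₀, map_sub, hθ, eq_sub_of_add_eq' hy, eq_sub_of_add_eq' hx0, div_neg, ← neg_div]
      congr 1
      ring
  have hinter : (R ∩ T).card ≤ 1 := by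
    rw [Finset.card_le_one]
    intro a ha b hb
    simp only [hR, hT, Finset.mem_inter, Finset.mem_filter, Finset.mem_univ, true_and] at ha hb
    have ea : 2 * a = -t := by linear_combination ha.2 - ha.1
    have eb : 2 * b = -t := by linear_combination hb.2 - hb.1
    have h20 : (2 : F) ≠ 0 := fun h => h2 ⟨h, by rw [h, zero_mul] at ea; exact neg_eq_zero.1 ea.symm⟩
    exact mul_left_cancel₀ h20 (ea.trans eb.symm)
  set f : F → F := fun x => x * x + t * x
  have himg : (R ∪ T).image f ⊆ R := by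
    intro y hy
    obtain ⟨x, hx, rfl⟩ := Finset.mem_image.1 hy
    simp only [hR, hT, f, Finset.mem_union, Finset.mem_filter, Finset.mem_univ, true_and] at hx ⊢
    rw [map_add, map_mul, map_mul, ht]
    rcases hx with h | h
    · rw [h]
    · linear_combination (σ x - x) * h
  have hfib : (R ∪ T).card ≤ 2 * ((R ∪ T).image f).card := by
    refine Finset.card_le_mul_card_image _ 2 fun y hy => ?_
    obtain ⟨x, -, rfl⟩ := Finset.mem_image.1 hy
    refine (Finset.card_le_card (t := ({x, -t - x} : Finset F)) fun a ha => ?_).trans Finset.card_le_two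
    simp only [f, Finset.mem_filter] at ha
    simp only [Finset.mem_insert, Finset.mem_singleton]
    have : (a - x) * (a - (-t - x)) = 0 := by linear_combination ha.2
    exact (mul_eq_zero.1 this).imp sub_eq_zero.1 sub_eq_zero.1
  have hcard := Finset.card_union_add_card_inter R T
  have heq := Finset.eq_of_subset_of_card_le himg (by omega)
  have : m ∈ R := by simp [hR, hm]
  rw [← heq] at this
  obtain ⟨x, -, hx⟩ := Finset.mem_image.1 this
  exact ⟨x, hx⟩

/-- The two coordinates recover the vector. -/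
theorem pr_split {l : F} (hl : σ l ≠ l) (Z : U × U) :
    Z = (l • pr σ l Z + σ l • pr σ (σ l) Z, pr σ l Z + pr σ (σ l) Z) := by
  have hD : l - σ l ≠ 0 := sub_ne_zero.2 (Ne.symm hl)
  have hD' : σ l - l ≠ 0 := sub_ne_zero.2 hl
  obtain ⟨A, B⟩ := Z
  simp only [pr, X.hg.invol.invol, Prod.mk.injEq, smul_sub, smul_smul]
  constructor <;> match_scalars <;> field_simp <;> ring

/-- The product of two root elements at conjugate halves is not in the group. -/
theorem diag_absurd {u : U} (hn : g u u ≠ 0) {l : F} (hl : σ l ≠ l) {w1 w2 : U} (hw1 : w1 ≠ 0) (h11 : g w1 w1 = 0)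
    (h22 : g w2 w2 = 0) (h12 : g w1 w2 ≠ 0) (h1u : g w1 u = 0) (h2u : g w2 u = 0) {d1 d2 : F} (hd2 : d2 ≠ 0)
    {G : HU H} (hG : G ∈ K) (eG : ∀ Z, G.1 Z = two g l w1 w2 !![d1, 0; 0, d2] Z) : False := by
  have hgi := X.hg.invol
  have hD : l - σ l ≠ 0 := sub_ne_zero.2 (Ne.symm hl)
  have hD' : σ l - l ≠ 0 := sub_ne_zero.2 hl
  have hp1 : ∀ A B : U, pr σ l ((l • A + σ l • B, A + B) : U × U) = A := fun A B => by
    simp only [pr]
    match_scalars <;> field_simp <;> ring
  have hp2 : ∀ A B : U, pr σ (σ l) ((l • A + σ l • B, A + B) : U × U) = B := fun A B => by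
    simp only [pr, hgi.invol]
    match_scalars <;> field_simp <;> ring
  have eG' : ∀ A B, G.1 (l • A + σ l • B, A + B) =
      (l • (A + (d1 * g w1 A) • w1) + σ l • (B + (d2 * g w2 B) • w2),
        A + (d1 * g w1 A) • w1 + (B + (d2 * g w2 B) • w2)) := fun A B => by
    rw [eG]
    simp only [two, hp1, hp2, Matrix.of_apply, Matrix.cons_val', Matrix.cons_val_zero, Matrix.cons_val_one,
      Matrix.empty_val', Matrix.cons_val_fin_one, zero_mul, add_zero, zero_add, Prod.smul_mk, Prod.mk_add_mk,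
      Prod.mk.injEq]
    constructor <;> module
  have hd : d1 + σ d1 = 0 ∧ d2 + σ d2 = 0 := by
    have key : ∀ (w : U) (d m : F), σ m ≠ m → g w w = 0 →
        (∀ y : U, g w y = 1 → H (m • (y + d • w), y + d • w) (m • (y + d • w), y + d • w) = H (m • y, y) (m • y, y)) →
        (∀ y, g w y ≠ 1) ∨ d + σ d = 0 := by
      intro w d m hm hw h
      by_cases hex : ∃ y, g w y = 1
      · obtain ⟨y, hy⟩ := hex
        right
        have hyw : g y w = 1 := by rw [← X.symm', hy, map_one]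
        have := h y hy
        rw [X.form, X.form] at this
        simp only [map_add, LinearMap.add_apply, smul_left, smul_right, hw, hy, hyw] at this
        have h' := mul_left_cancel₀ X.ne this
        refine (mul_eq_zero.1 (?_ : (σ m - m) * (d + σ d) = 0)).resolve_left (sub_ne_zero.2 hm)
        linear_combination h'
      · exact Or.inl (not_exists.1 hex)
    have hw2 : w2 ≠ 0 := fun h => h12 (by rw [h, map_zero])
    obtain ⟨y1, hy1⟩ := X.hg.exists_apply_eq_one hw1
    obtain ⟨y2, hy2⟩ := X.hg.exists_apply_eq_one hw2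
    refine ⟨((key w1 d1 l hl h11 fun y hy => ?_).resolve_left fun h => h y1 hy1),
      ((key w2 d2 (σ l) (fun h => hl (by rw [hgi.invol] at h; exact h.symm)) h22 fun y hy => ?_).resolve_left
        fun h => h y2 hy2)⟩
    · have := eG' y 0
      simp [hy] at this
      have h' := HU.map_eq G (l • y, y) (l • y, y)
      rw [this] at h'
      simpa [smul_add] using h'
    · have := eG' 0 y
      simp [hy] at this
      have h' := HU.map_eq G (σ l • y, y) (σ l • y, y)
      rw [this] at h'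
      simpa [smul_add] using h'
  obtain ⟨hd1, hd2'⟩ := hd
  let t1 : HU g := X.hg.tr h11 (c := -d1) (by rw [map_neg, ← neg_add, hd1, neg_zero])
  let t2 : HU g := X.hg.tr h22 (c := d2) hd2'
  have et1 : ∀ Y, t1.1 Y = Y + (-d1 * g w1 Y) • w1 := fun Y => X.hg.tr_apply _ _ Y
  have et2 : ∀ Y, t2.1 Y = Y + (d2 * g w2 Y) • w2 := fun Y => X.hg.tr_apply _ _ Y
  let P : HU H → HU g → HU g → Prop := fun k Φ Ψ => ∀ A B, k.1 (l • A + σ l • B, A + B) =
    (l • Φ.1 A + σ l • Ψ.1 B, Φ.1 A + Ψ.1 B)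
  have hPmul : ∀ {k k' Φ Φ' Ψ Ψ'}, P k Φ Ψ → P k' Φ' Ψ' → P (k * k') (Φ * Φ') (Ψ * Ψ') :=
    fun {k k' Φ Φ' Ψ Ψ'} h h' A B => by rw [mul_apply, h', h]; rfl
  have hPinv : ∀ {k Φ Ψ}, P k Φ Ψ → P k⁻¹ Φ⁻¹ Ψ⁻¹ := fun {k Φ Ψ} h A B => inv_apply (by
    rw [h, show Φ.1 (Φ⁻¹.1 A) = A from Φ.1.apply_symm_apply A, show Ψ.1 (Ψ⁻¹.1 B) = B from Ψ.1.apply_symm_apply B])
  have hPdia : ∀ τ ∈ HSU g, ∃ k ∈ K, P k τ τ := fun τ hτ => by
    obtain ⟨k, hk, e⟩ := X.dia τ hτ
    exact ⟨k, hk, fun A B => by rw [e, map_add, map_add, map_smul, map_smul]⟩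
  have hPG : ∀ A B, G.1 (l • A + σ l • B, A + B) =
      (l • (A + (d1 * g w1 A) • w1) + σ l • t2.1 B, A + (d1 * g w1 A) • w1 + t2.1 B) := fun A B => by rw [eG', et2]
  obtain ⟨m1, hm1, em1⟩ := hPdia t1 (X.hg.det_tr _ _)
  have hPG' : P (G * m1) 1 (t2 * t1) := fun A B => by
    rw [mul_apply, em1, hPG]
    have e : t1.1 A + (d1 * g w1 (t1.1 A)) • w1 = A := by
      rw [et1, map_add, smul_right, h11]
      module
    rw [e]
    rfl
  -- the torus
  set D := t2 * t1 with hD1
  have hu1 := X.hg.eq_zero_symm h1u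
  have hu2 := X.hg.eq_zero_symm h2u
  have h21 : g w2 w1 ≠ 0 := fun h => h12 (X.hg.eq_zero_symm h)
  set x := w1 + (d2 * g w2 w1) • w2 with hx
  have eDw : D.1 w1 = x := by
    show t2.1 (t1.1 w1) = x
    rw [et1, h11, mul_zero, zero_smul, add_zero, et2]
  have eDu : D.1 u = u := by
    show t2.1 (t1.1 u) = u
    rw [et1, h1u, mul_zero, zero_smul, add_zero, et2, h2u, mul_zero, zero_smul, add_zero]
  have hxx : g x x = 0 := by rw [← eDw, HU.map_eq, h11]
  set p := g w1 x with hp
  have hp0 : p ≠ 0 := by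
    rw [hp, hx, map_add, smul_right, h11, zero_add]
    exact mul_ne_zero (mul_ne_zero hd2 h21) h12
  have hxu : g x u = 0 := by rw [hx, add_left, smul_left, h1u, h2u, mul_zero, add_zero]
  obtain ⟨r, hr, hr0, hr1⟩ := X.exists_real
  obtain ⟨η, hη⟩ := hgi.exists_norm_eq hr
  have hη0 : η ≠ 0 := fun h => hr0 (by rw [← hη, h, zero_mul])
  have hση : σ η ≠ 0 := fun h => hη0 (IsInvol.apply_eq_zero_iff.1 h)
  obtain ⟨τ, hτ, eτ⟩ := X.exists_diag (v := w1) (v' := p⁻¹ • x) (z := u) h11
    (by rw [IsHerm.smul_self, hxx, mul_zero]) (by rw [smul_right, ← hp, inv_mul_cancel₀ hp0]) h1u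
    (by rw [smul_left, hxu, mul_zero]) hn (a := η) (b := (σ η)⁻¹) (c := σ η / η) (mul_inv_cancel₀ hση)
    (by rw [map_div₀, hgi.invol]; field_simp) (by field_simp)
  have eτw : τ.1 w1 = η • w1 := by
    rw [eτ, h11, hu1, smul_left, ← X.symm' w1 x, ← hp, map_inv₀]
    simp [hp0]
  have eτx : τ.1 x = (σ η)⁻¹ • x := by
    rw [eτ, ← hp, smul_left, hxx, X.hg.eq_zero_symm hxu]
    simp [smul_smul, hp0]
  have eτu : τ.1 u = (σ η / η) • u := by
    rw [eτ, h1u, smul_left, hxu]
    simp [hn]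
  obtain ⟨mτ, hmτ, emτ⟩ := hPdia τ hτ
  set E := D⁻¹ * τ * D * τ⁻¹ with hE
  set G' := (G * m1)⁻¹ * mτ * (G * m1) * mτ⁻¹
  have hG' : G' ∈ K :=
    K.mul_mem (K.mul_mem (K.mul_mem (K.inv_mem (K.mul_mem hG hm1)) hmτ) (K.mul_mem hG hm1)) (K.inv_mem hmτ)
  have hPG'' : P G' 1 E := by
    have := hPmul (hPmul (hPmul (hPinv hPG') emτ) hPG') (hPinv emτ)
    simp only [inv_one, one_mul, mul_one, mul_inv_cancel] at this
    exact this
  have eE : ∀ a : U, E.1 (τ.1 a) = D.1.symm (τ.1 (D.1 a)) := fun a => by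
    show D.1.symm (τ.1 (D.1 (τ.1.symm (τ.1 a)))) = _
    rw [LinearEquiv.symm_apply_apply]
  have eEu : E.1 u = u := by
    have := eE u
    rw [eDu, eτu, map_smul, map_smul] at this
    have h2 : D.1.symm u = u := (LinearEquiv.symm_apply_eq _).2 eDu.symm
    rw [h2] at this
    exact smul_right_injective _ (div_ne_zero hση hη0) this
  have eEw : E.1 w1 = (η * σ η)⁻¹ • w1 := by
    have := eE w1
    rw [eDw, eτx, eτw, map_smul, map_smul] at this
    have h2 : D.1.symm x = w1 := (LinearEquiv.symm_apply_eq _).2 eDw.symm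
    rw [h2] at this
    refine smul_right_injective _ hη0 ?_
    show η • E.1 w1 = η • (η * σ η)⁻¹ • w1
    rw [this, smul_smul]
    congr 1
    field_simp
  have hG'' : ∀ Z : U × U, G'.1 Z =
      (l • pr σ l Z + σ l • E.1 (pr σ (σ l) Z), pr σ l Z + E.1 (pr σ (σ l) Z)) := fun Z => by
    conv_lhs => rw [X.pr_split hl Z]
    exact hPG'' _ _
  have hline : ∀ (a b : F) (y : U) (ν : F), E.1 y = ν • y → G'.1 (a • y, b • y) =
      (((l * (a - σ l * b) - σ l * ν * (a - l * b)) / (l - σ l)) • y,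
        ((a - σ l * b - ν * (a - l * b)) / (l - σ l)) • y) := fun a b y ν hy => by
    rw [hG'']
    have e1 : pr σ l ((a • y, b • y) : U × U) = ((a - σ l * b) / (l - σ l)) • y := by
      simp only [pr]
      module
    have e2 : pr σ (σ l) ((a • y, b • y) : U × U) = ((a - l * b) / (σ l - l)) • y := by
      simp only [pr, hgi.invol]
      module
    rw [e1, e2, map_smul, hy, ← neg_sub l (σ l), div_neg]
    simp only [Prod.mk.injEq]
    constructor <;> module
  set ν := (η * σ η)⁻¹ with hν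
  obtain ⟨-, hγ, -⟩ := X.scalar_on_line hn h11 h1u hw1 h11 h1u hG'
    (fun a b => by
      rw [hline a b u 1 (by rw [eEu, one_smul])]
      simp only [Prod.mk.injEq]
      constructor <;> match_scalars <;> field_simp <;> ring)
    (by simpa using hline 1 0 w1 ν eEw) (by simpa using hline 0 1 w1 ν eEw)
  have h1 : ν = 1 := by
    field_simp at hγ
    linear_combination -hγ
  rw [hν, hη, inv_eq_one] at h1
  exact hr1 h1

/-- The image of the root line cannot meet two conjugate halves. -/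
theorem twist_absurd {u v : U} (hn : g u u ≠ 0) (hv0 : v ≠ 0) (hv : g v v = 0) {k : HU H}
    (hk : k ∈ K) {l : F} (hl : σ l ≠ l) {w1 w2 : U} (hw1 : w1 ≠ 0) (h11 : g w1 w1 = 0)
    (h22 : g w2 w2 = 0) (h12 : g w1 w2 ≠ 0) (h1u : g w1 u = 0) (h2u : g w2 u = 0) {a1 b1 a2 b2 : F}
    (e1 : k.1 (a1 • v, b1 • v) = (l • w1, w1)) (e2 : k.1 (a2 • v, b2 • v) = (σ l • w2, w2)) : False := by
  have hgi := X.hg.invol
  have h21 : g w2 w1 ≠ 0 := fun h => h12 (X.hg.eq_zero_symm h)
  have hD : l - σ l ≠ 0 := sub_ne_zero.2 (Ne.symm hl)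
  have hD' : σ l - l ≠ 0 := sub_ne_zero.2 hl
  have hw2 : w2 ≠ 0 := fun h => h12 (by rw [h, map_zero])
  set X1 : U × U := (l • w1, w1) with hX1
  set X2 : U × U := (σ l • w2, w2) with hX2
  -- the preimages are independent
  set Δ := a1 * b2 - a2 * b1 with hΔ
  have hc1 : k.1 (Δ • v, 0) = b2 • X1 - b1 • X2 := by
    rw [← e1, ← e2, ← map_smul, ← map_smul, ← map_sub]
    congr 1
    simp only [hΔ, Prod.smul_mk, Prod.mk_sub_mk, Prod.mk.injEq]
    constructor <;> module
  have hc2 : k.1 (0, Δ • v) = a1 • X2 - a2 • X1 := by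
    rw [← e1, ← e2, ← map_smul, ← map_smul, ← map_sub]
    congr 1
    simp only [hΔ, Prod.smul_mk, Prod.mk_sub_mk, Prod.mk.injEq]
    constructor <;> module
  have hΔ0 : Δ ≠ 0 := fun h => by
    rw [h, zero_smul, show ((0, 0) : U × U) = 0 from rfl, map_zero] at hc1 hc2
    have f1 : b2 • w1 - b1 • w2 = 0 := (congrArg Prod.snd hc1).symm
    have f2 : a1 • w2 - a2 • w1 = 0 := (congrArg Prod.snd hc2).symm
    have hb : b1 = 0 := by simpa [smul_right, h11, h12] using congrArg (g w1) f1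
    have ha : a1 = 0 := by simpa [smul_right, h11, h12] using congrArg (g w1) f2
    rw [ha, hb, zero_smul, show ((0, 0) : U × U) = 0 from rfl, map_zero] at e1
    exact hw1 (congrArg Prod.snd e1).symm
  have hσΔ : σ Δ ≠ 0 := fun h => hΔ0 (IsInvol.apply_eq_zero_iff.1 h)
  -- the conjugate of the transvection
  obtain ⟨c, hc0, hc⟩ := X.hg.exists_skew
  obtain ⟨T, hT, eT⟩ := X.dia_tr hv hc
  set N := c * (l - σ l) / (Δ * σ Δ) with hN
  set d : Matrix (Fin 2) (Fin 2) F := !![N * (a2 * σ b2 - b2 * σ a2), N * (a2 * σ b1 - b2 * σ a1);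
    N * (b1 * σ a2 - a1 * σ b2), N * (b1 * σ a1 - a1 * σ b1)] with hd
  have eT' : ∀ Z, (k * T * k⁻¹).1 Z = two g l w1 w2 d Z := fun Z => quot_apply (fun W => by
    obtain ⟨A, B⟩ := W
    have r1 : σ a1 * g v B - σ b1 * g v A = -(l - σ l) * g w1 (pr σ l (k.1 (A, B))) := by
      have := HU.map_eq k (a1 • v, b1 • v) (A, B)
      rw [e1, X.form_eq, X.form_eq] at this
      simp only [hX1, smul_left] at this
      simp only [pr, map_sub, map_smul, smul_eq_mul]
      field_simp
      linear_combination -mul_left_cancel₀ X.ne this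
    have r2 : σ a2 * g v B - σ b2 * g v A = (l - σ l) * g w2 (pr σ (σ l) (k.1 (A, B))) := by
      have := HU.map_eq k (a2 • v, b2 • v) (A, B)
      rw [e2, X.form_eq, X.form_eq] at this
      simp only [hX2, smul_left, hgi.invol] at this
      simp only [pr, map_sub, map_smul, smul_eq_mul, hgi.invol]
      field_simp
      linear_combination (σ l - l) * (-mul_left_cancel₀ X.ne this)
    have hA : g v A = (-(σ a2 * (l - σ l)) * g w1 (pr σ l (k.1 (A, B))) -
        σ a1 * (l - σ l) * g w2 (pr σ (σ l) (k.1 (A, B)))) / σ Δ := by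
      rw [eq_div_iff hσΔ, hΔ, map_sub, map_mul, map_mul]
      linear_combination σ a2 * r1 - σ a1 * r2
    have hB : g v B = (-(σ b2 * (l - σ l)) * g w1 (pr σ l (k.1 (A, B))) -
        σ b1 * (l - σ l) * g w2 (pr σ (σ l) (k.1 (A, B)))) / σ Δ := by
      rw [eq_div_iff hσΔ, hΔ, map_sub, map_mul, map_mul]
      linear_combination σ b2 * r1 - σ b1 * r2
    rw [mul_apply, eT]
    have e : ((A + (c * g v A) • v, B + (c * g v B) • v) : U × U) =
        (A, B) + (c * g v A / Δ) • (Δ • v, (0 : U)) + (c * g v B / Δ) • ((0 : U), Δ • v) := by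
      simp [smul_smul, hΔ0]
    rw [e, map_add, map_add, map_smul, map_smul, hc1, hc2, hA, hB]
    simp only [two, hd, Matrix.of_apply, Matrix.cons_val', Matrix.cons_val_zero, Matrix.cons_val_one,
      Matrix.empty_val', Matrix.cons_val_fin_one]
    rw [← hX1, ← hX2, hN]
    match_scalars <;> simp only [div_eq_mul_inv, mul_inv] <;> ring) Z
  have hT' : k * T * k⁻¹ ∈ K := K.mul_mem (K.mul_mem hk hT) (K.inv_mem hk)
  -- products of such elements
  have hp11 : pr σ l X1 = w1 := by
    simp only [pr, hX1]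
    match_scalars <;> field_simp
  have hp12 : pr σ l X2 = 0 := by simp [pr, hX2]
  have hp21 : pr σ (σ l) X1 = 0 := by simp [pr, hX1, hgi.invol]
  have hp22 : pr σ (σ l) X2 = w2 := by
    simp only [pr, hX2, hgi.invol]
    match_scalars <;> field_simp
  have hplin : ∀ (m : F) (Y Y' : U × U) (a : F), pr σ m (Y + a • Y') = pr σ m Y + a • pr σ m Y' := fun m Y Y' a => by
    simp only [pr, Prod.fst_add, Prod.snd_add, Prod.smul_fst, Prod.smul_snd]
    module
  have hadd : ∀ d d' Z, two g l w1 w2 d (two g l w1 w2 d' Z) = two g l w1 w2 (d + d') Z := fun d d' Z => by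
    simp only [two]
    rw [← hX1, ← hX2]
    simp only [hplin, hp11, hp12, hp21, hp22, smul_zero, add_zero, map_add, smul_right, h11, h22, mul_zero,
      Matrix.add_apply]
    module
  have hzero : ∀ Z, two g l w1 w2 0 Z = Z := fun Z => by simp [two]
  have hinv : ∀ {G : HU H} {d}, (∀ Z, G.1 Z = two g l w1 w2 d Z) → ∀ Z, (G⁻¹).1 Z = two g l w1 w2 (-d) Z :=
    fun {G d} h Z => inv_apply (by rw [h, hadd, add_neg_cancel, hzero])
  obtain ⟨ω, hω, hω2⟩ := X.exists_norm_one
  have hσω2 : σ ω ^ 2 ≠ 1 := fun h => hω2 (σ.injective (by rw [map_pow, h, map_one]))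
  -- an element of norm one acting as a real matrix
  set c' := (ω - σ ω) / (l - σ l) with hc'
  set a' := (ω * l - σ ω * σ l) / (l - σ l) with ha'
  have hcr : σ c' = c' := by
    rw [hc', map_div₀, map_sub, map_sub, hgi.invol, hgi.invol, ← neg_sub ω, ← neg_sub l, neg_div_neg_eq]
  have har : σ a' = a' := by
    rw [ha', map_div₀, map_sub, map_sub, map_mul, map_mul, hgi.invol, hgi.invol, ← neg_sub (ω * l), ← neg_sub l,
      neg_div_neg_eq]
  have hbr : σ (ω * l - a' * l) = ω * l - a' * l := by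
    rw [map_sub, map_mul, map_mul, har, ha']
    field_simp
    ring
  have hdr : σ (ω - c' * l) = ω - c' * l := by
    rw [map_sub, map_mul, hcr, hc']
    field_simp
    ring
  obtain ⟨m, hm, em⟩ := X.sl a' (ω * l - a' * l) c' (ω - c' * l) har hbr hcr hdr (by
    rw [ha', hc']
    field_simp
    linear_combination (l - σ l) ^ 2 * hω)
  have hm1 : ∀ Z, pr σ l (m.1 Z) = ω • pr σ l Z := fun Z => by
    obtain ⟨A, B⟩ := Z
    simp only [em, pr, ha', hc']
    match_scalars <;> field_simp <;> ring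
  have hm2 : ∀ Z, pr σ (σ l) (m.1 Z) = σ ω • pr σ (σ l) Z := fun Z => by
    obtain ⟨A, B⟩ := Z
    simp only [em, pr, ha', hc', hgi.invol]
    match_scalars <;> field_simp <;> ring
  have hmX1 : m.1 X1 = ω • X1 := by
    simp only [hX1, em, Prod.smul_mk, Prod.mk.injEq]
    constructor <;> module
  have hmX2 : m.1 X2 = σ ω • X2 := by
    simp only [hX2, em, Prod.smul_mk, Prod.mk.injEq, ha', hc']
    constructor <;> match_scalars <;> field_simp <;> ring
  set d' : Matrix (Fin 2) (Fin 2) F := !![d 0 0, ω ^ 2 * d 0 1; σ ω ^ 2 * d 1 0, d 1 1] with hd'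
  have em' : ∀ Z, (m * (k * T * k⁻¹) * m⁻¹).1 Z = two g l w1 w2 d' Z := fun Z => quot_apply (fun W => by
    rw [mul_apply, eT']
    simp only [two]
    rw [← hX1, ← hX2]
    simp only [map_add, map_smul, hmX1, hmX2, hm1, hm2, smul_eq_mul, smul_smul, hd', Matrix.of_apply,
      Matrix.cons_val', Matrix.cons_val_zero, Matrix.cons_val_one, Matrix.empty_val', Matrix.cons_val_fin_one]
    match_scalars <;> (try ring1)
    · linear_combination (-(d 0 1 * g w2 (pr σ (σ l) W) * ω)) * hω
    · linear_combination (-(d 1 0 * g w1 (pr σ l W) * σ ω)) * hω) Z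
  set o1 := (ω ^ 2 - 1) * d 0 1 with ho1
  set o2 := (σ ω ^ 2 - 1) * d 1 0 with ho2
  set O := m * (k * T * k⁻¹) * m⁻¹ * (k * T * k⁻¹)⁻¹
  have hO : O ∈ K := K.mul_mem (K.mul_mem (K.mul_mem hm hT') (K.inv_mem hm)) (K.inv_mem hT')
  have eO : ∀ Z, O.1 Z = two g l w1 w2 !![0, o1; o2, 0] Z := fun Z => by
    rw [mul_apply, hinv eT', em', hadd]
    congr 1
    ext i j
    fin_cases i <;> fin_cases j <;> simp [hd', ho1, ho2] <;> ring
  -- conjugate a transvection by it
  obtain ⟨T0, hT0, eT0⟩ := X.dia_tr h11 hc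
  set e := (l - σ l)⁻¹ with he
  set κ := g w1 w2 * o2 with hκ
  set π := o1 * g w2 w1 * e with hπ
  set T'' : Matrix (Fin 2) (Fin 2) F :=
    !![c * (1 - κ * e * σ l - l * π * (1 - κ * e * σ l + κ * e * l)),
      c * (κ * e * σ l * σ l - l * π * (-l + κ * e * σ l * (σ l - l)));
      c * (-(κ * e) - π * (1 - κ * e * σ l + κ * e * l)),
      c * (1 + κ * e * σ l - π * (-l + κ * e * σ l * (σ l - l)))] with hT''
  have hOw : ∀ P Q : F, O.1 (P • w1, Q • w1) = (P • w1, Q • w1) + (-π * (P - l * Q)) • X1 := fun P Q => by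
    rw [eO]
    have e1 : pr σ l ((P • w1, Q • w1) : U × U) = (e * (P - σ l * Q)) • w1 := by simp only [pr, ← he]; module
    have e2 : pr σ (σ l) ((P • w1, Q • w1) : U × U) = (-e * (P - l * Q)) • w1 := by
      simp only [pr, hgi.invol, show (σ l - l)⁻¹ = -e by rw [he, ← neg_sub l, inv_neg]]
      module
    simp only [two, e1, e2, smul_right, h11, hπ, Matrix.of_apply, Matrix.cons_val', Matrix.cons_val_zero,
      Matrix.cons_val_one, Matrix.empty_val', Matrix.cons_val_fin_one]
    rw [← hX1, ← hX2]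
    module
  have eO' : ∀ Z, (O * T0 * O⁻¹).1 Z = lr g w1 T'' Z := fun Z => by
    rw [mul_apply, mul_apply, hinv eO]
    obtain ⟨A, B⟩ := Z
    set W := two g l w1 w2 (-!![0, o1; o2, 0]) (A, B) with hW
    have hOW : O.1 W = (A, B) := by rw [eO, hW, hadd, add_neg_cancel, hzero]
    have f1 : g w1 W.1 = g w1 A - σ l * g w1 w2 * o2 * (e * (g w1 A - σ l * g w1 B)) := by
      simp only [hW, two, pr, ← he, Matrix.neg_apply, Matrix.of_apply, Matrix.cons_val', Matrix.cons_val_zero,
        Matrix.cons_val_one, Matrix.empty_val', Matrix.cons_val_fin_one, Prod.fst_add, Prod.smul_fst, map_add,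
        smul_right, map_sub, h11]
      ring
    have f2 : g w1 W.2 = g w1 B - g w1 w2 * o2 * (e * (g w1 A - σ l * g w1 B)) := by
      simp only [hW, two, pr, ← he, Matrix.neg_apply, Matrix.of_apply, Matrix.cons_val', Matrix.cons_val_zero,
        Matrix.cons_val_one, Matrix.empty_val', Matrix.cons_val_fin_one, Prod.snd_add, Prod.smul_snd, map_add,
        smul_right, map_sub, h11]
      ring
    obtain ⟨W1, W2⟩ := W
    simp only at f1 f2
    rw [eT0, show ((W1 + (c * g w1 W1) • w1, W2 + (c * g w1 W2) • w1) : U × U) =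
      (W1, W2) + ((c * g w1 W1) • w1, (c * g w1 W2) • w1) by simp, map_add, hOW, hOw, f1, f2]
    simp only [lr, hT'', hX1, hκ, Matrix.of_apply, Matrix.cons_val', Matrix.cons_val_zero, Matrix.cons_val_one,
      Matrix.empty_val', Matrix.cons_val_fin_one, Prod.smul_mk, Prod.mk_add_mk, Prod.mk.injEq]
    constructor <;> module
  obtain ⟨f10, f01, fd⟩ := X.root_scalar hw1 h11 (T := T'') (K.mul_mem (K.mul_mem hO hT0) (K.inv_mem hO)) eO'
  simp [hT'', hc0] at f10 f01 fd
  have hel : e * (l - σ l) = 1 := inv_mul_cancel₀ hD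
  have g10 : κ * e + π * (1 + κ) = 0 := by linear_combination -f10 - π * κ * hel
  have gd : π * (2 + κ) * (σ l - l) = 0 := by
    linear_combination fd + π * κ * (l - σ l) * hel + 2 * σ l * g10 + 2 * σ l * π * κ * hel
  have he0 : e ≠ 0 := inv_ne_zero hD
  have hzero' : κ = 0 ∧ π = 0 := by
    rcases mul_eq_zero.1 ((mul_eq_zero.1 gd).resolve_right hD') with h | h
    · rw [h, zero_mul, add_zero] at g10
      exact ⟨(mul_eq_zero.1 g10).resolve_right he0, h⟩
    · have hκ2 : κ = -2 := by linear_combination h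
      have hπ2 : π = -2 * e := by rw [hκ2] at g10; linear_combination -g10
      have h2 : (2 : F) * e * ((σ l - l) * (σ l - l)) = 0 := by
        rw [hκ2, hπ2] at f01
        linear_combination -f01 + 4 * e * l * σ l * hel
      have h20 : (2 : F) = 0 := by
        rcases mul_eq_zero.1 h2 with h | h
        · exact (mul_eq_zero.1 h).resolve_right he0
        · exact absurd (mul_self_eq_zero.1 h) hD'
      exact ⟨by rw [hκ2, h20, neg_zero], by rw [hπ2, h20, neg_zero, zero_mul]⟩
  have hω1 : ω ^ 2 - 1 ≠ 0 := sub_ne_zero.2 hω2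
  have hω1' : σ ω ^ 2 - 1 ≠ 0 := sub_ne_zero.2 hσω2
  obtain ⟨hκ0, hπ0⟩ := hzero'
  have hd01 : d 0 1 = 0 := by simpa [hπ, ho1, hω1, h21, he0] using hπ0
  have hd10 : d 1 0 = 0 := by simpa [hκ, ho2, hω1', h12] using hκ0
  have ediag : d = !![d 0 0, 0; 0, d 1 1] := by
    ext i j
    fin_cases i <;> fin_cases j <;> simp [hd01, hd10]
  by_cases h11d : d 1 1 = 0
  · by_cases h00d : d 0 0 = 0
    · have hd0 : d = 0 := by rw [ediag, h00d, h11d]; ext i j; fin_cases i <;> fin_cases j <;> simp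
      obtain ⟨y, hy⟩ := X.hg.exists_apply_eq_one hv0
      have := eT' (k.1 (y, 0))
      rw [hd0, hzero, ← mul_apply, inv_mul_cancel_right, mul_apply, eT] at this
      have h' := congrArg Prod.fst (k.1.injective this)
      simp [hy, hc0, hv0] at h'
    · refine X.diag_absurd hn (l := σ l) (fun h => hl (by rw [hgi.invol] at h; exact h.symm)) hw2 h22 h11 h21 h2u h1u
        (d1 := d 1 1) (d2 := d 0 0) h00d hT' fun Z => ?_
      rw [eT']
      conv_lhs => rw [ediag]
      simp [two, hgi.invol, h11d]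
  · exact X.diag_absurd hn hl hw1 h11 h22 h12 h1u h2u (d1 := d 0 0) (d2 := d 1 1) h11d hT' fun Z => by
      rw [eT']
      conv_lhs => rw [ediag]

end Ctx

end CfsgLib.Geo.UnitTensorTwo
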