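/-
Every element of a proper overgroup is a tensor product.
-/
import Cfsg.Agent.Lib.Geo.UnitTensorTwo.Twist

set_option autoImplicit false
set_option linter.unusedSectionVars false

namespace CfsgLib.Geo.UnitTensorTwo

open CfsgLib.Classical CfsgLib.Classical.Herm CfsgLib.Geo.UnitMax

variable {F : Type*} [Field F] {U : Type*} [AddCommGroup U] [Module F U] {σ : F →+* F}
  {g : U →ₛₗ[σ] U →ₗ[F] F} {H : U × U →ₛₗ[σ] U × U →ₗ[F] F}

variable [Finite F] [FiniteDimensional F U]

namespace Ctx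

variable {ζ : F} {K : Subgroup (HU H)} (X : Ctx g H ζ K)
include X

/-- Every non-zero vector is seen by an isotropic one. -/
theorem exists_iso_apply {y : U} (hy : y ≠ 0) : ∃ v, g v v = 0 ∧ g v y ≠ 0 := by
  by_cases hyy : g y y = 0
  · obtain ⟨v, h1, h2⟩ := X.hg.exists_isotropic_partner hy hyy
    exact ⟨v, h2, by rw [← X.symm', h1, map_one]; exact one_ne_zero⟩
  obtain ⟨v, v', -, hv, hv', h1, hvy, hv'y⟩ := X.exists_perp_frame hyy
  obtain ⟨s, hs⟩ := X.hg.invol.exists_trace_eq (μ := -g y y) (by rw [map_neg, X.hg.self_fixed])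
  have h1' : g v' v = 1 := by rw [← X.symm', h1, map_one]
  refine ⟨v + s • v' + y, ?_, ?_⟩
  · simp only [map_add, LinearMap.add_apply, smul_left, smul_right, hv, hv', h1, h1', hvy, hv'y,
      X.hg.eq_zero_symm hvy, X.hg.eq_zero_symm hv'y]
    linear_combination hs
  · simpa [smul_left, hvy, hv'y] using hyy

/-- An element whose image of the first half is invariant under the diagonal transvections. -/
theorem kr_of_invariant {k : HU H} (hk : k ∈ K)
    (hinv : ∀ v : U, g v v = 0 → ∀ c : F, c + σ c = 0 → ∀ A : U, ∃ A' : U,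
      k.1 (A', 0) = ((k.1 (A, 0)).1 + (c * g v (k.1 (A, 0)).1) • v, (k.1 (A, 0)).2 + (c * g v (k.1 (A, 0)).2) • v)) :
    Kr k := by
  let L : U →ₗ[F] U × U := (k.1 : U × U →ₗ[F] U × U) ∘ₗ LinearMap.inl F U U
  set W := LinearMap.range L with hW
  have hmem : ∀ Y, Y ∈ W ↔ ∃ A, k.1 (A, 0) = Y := fun Y => Iff.rfl
  have hL : Function.Injective L := fun A B h => congrArg Prod.fst (k.1.injective h)
  -- a root line meets the image
  obtain ⟨v0, hv00, hv0⟩ := X.hg.exists_isotropic (by rw [X.dim]; norm_num)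
  obtain ⟨a, b, v, hv, hv0', hab, hmab⟩ : ∃ (a b : F) (v : U), g v v = 0 ∧ v ≠ 0 ∧ (a ≠ 0 ∨ b ≠ 0) ∧
      ((a • v, b • v) : U × U) ∈ W := by
    obtain ⟨y, hy0, hy⟩ : ∃ y : U, y ≠ 0 ∧ ((k.1 (v0, 0)).1 = y ∨ (k.1 (v0, 0)).2 = y) := by
      by_contra! h
      have h1 : (k.1 (v0, 0)).1 = 0 := by_contra fun hne => (h _ hne).1 rfl
      have h2 : (k.1 (v0, 0)).2 = 0 := by_contra fun hne => (h _ hne).2 rfl
      exact hv00 (congrArg Prod.fst ((LinearEquiv.map_eq_zero_iff _).1 (Prod.ext h1 h2 : k.1 (v0, 0) = 0)))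
    obtain ⟨v, hv, hvy⟩ := X.exists_iso_apply hy0
    obtain ⟨c, hc0, hc⟩ := X.hg.exists_skew
    obtain ⟨A', hA'⟩ := hinv v hv c hc v0
    refine ⟨c * g v (k.1 (v0, 0)).1, c * g v (k.1 (v0, 0)).2, v, hv, fun h => hvy (by rw [h]; simp), ?_, ?_⟩
    · rcases hy with h | h
      · exact Or.inl (by rw [h]; exact mul_ne_zero hc0 hvy)
      · exact Or.inr (by rw [h]; exact mul_ne_zero hc0 hvy)
    · refine (hmem _).2 ⟨A' - v0, ?_⟩
      rw [show ((A' - v0, 0) : U × U) = (A', 0) - (v0, 0) by simp, map_sub, hA']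
      ext <;> simp
  -- invariance under the whole diagonal group
  have htr : ∀ τ ∈ X.hg.trGroup, ∀ Y ∈ W, ((τ : HU g).1 Y.1, τ.1 Y.2) ∈ W := by
    intro τ hτ
    suffices (∀ Y ∈ W, (τ.1 Y.1, τ.1 Y.2) ∈ W) ∧ ∀ Y ∈ W, ((τ⁻¹).1 Y.1, (τ⁻¹).1 Y.2) ∈ W from this.1
    have hgen : ∀ (w : U) (hw : g w w = 0) (c : F) (hc : c + σ c = 0), ∀ Y ∈ W,
        ((X.hg.tr hw hc).1 Y.1, (X.hg.tr hw hc).1 Y.2) ∈ W := by
      intro w hw c hc Y hY
      obtain ⟨A, rfl⟩ := (hmem _).1 hY
      obtain ⟨A', hA'⟩ := hinv w hw c hc A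
      refine (hmem _).2 ⟨A', ?_⟩
      rw [hA', X.hg.tr_apply, X.hg.tr_apply]
    induction hτ using Subgroup.closure_induction with
    | mem x hx =>
      obtain ⟨w, hw, c, hc, rfl⟩ := hx
      refine ⟨hgen w hw c hc, fun Y hY => ?_⟩
      have hc' : -c + σ (-c) = 0 := by rw [map_neg, ← neg_add, hc, neg_zero]
      have e : ∀ A, ((X.hg.tr hw hc)⁻¹).1 A = (X.hg.tr hw hc').1 A := fun A => by
        show (X.hg.tr hw hc).1.symm A = _
        rw [LinearEquiv.symm_apply_eq, X.hg.tr_apply, X.hg.tr_apply, map_add, smul_right, hw]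
        module
      rw [e, e]
      exact hgen w hw _ hc' Y hY
    | one => exact ⟨fun Y hY => hY, fun Y hY => hY⟩
    | mul x y _ _ hx hy =>
      refine ⟨fun Y hY => hx.1 _ (hy.1 Y hY), fun Y hY => ?_⟩
      rw [mul_inv_rev]
      exact hy.2 _ (hx.2 Y hY)
    | inv x _ hx => exact ⟨hx.2, by rw [inv_inv]; exact hx.1⟩
  have hiso : ∀ w : U, g w w = 0 → ((a • w, b • w) : U × U) ∈ W := by
    intro w hw
    by_cases hw0 : w = 0
    · rw [hw0, smul_zero, smul_zero]; exact W.zero_mem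
    obtain ⟨τ, hτ, eτ⟩ := X.hg.transitive_isotropic X.three hv0' hw0 hv hw
    have := htr τ hτ _ hmab
    simpa [eτ] using this
  let M : U →ₗ[F] U × U := (a • LinearMap.id).prod (b • LinearMap.id)
  have hM : ∀ A : U, M A = (a • A, b • A) := fun A => rfl
  have hMW : LinearMap.range M ≤ W := by
    rintro _ ⟨A, rfl⟩
    obtain ⟨v', z, h1, h1', h2, hvz, hzv, hvz', hzv', hn, hdec⟩ := X.exists_frame hv0' hv
    obtain ⟨s, hs⟩ := X.hg.invol.exists_trace_eq (μ := -g z z) (by rw [map_neg, X.hg.self_fixed])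
    have hw : g (v + s • v' + z) (v + s • v' + z) = 0 := by
      simp only [map_add, LinearMap.add_apply, smul_left, smul_right, hv, h1, h1', h2, hvz, hzv, hvz', hzv']
      linear_combination hs
    have hz : M z ∈ W := by
      have e : z = (v + s • v' + z) - v - s • v' := by abel
      rw [e, map_sub, map_sub, map_smul]
      exact W.sub_mem (W.sub_mem (hiso _ hw) (hiso _ hv)) (W.smul_mem _ (hiso _ h2))
    rw [hdec A, map_add, map_add, map_smul, map_smul, map_smul]
    exact W.add_mem (W.add_mem (W.smul_mem _ (hiso _ hv)) (W.smul_mem _ (hiso _ h2))) (W.smul_mem _ hz)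
  have hMinj : Function.Injective M := fun A B h => by
    rw [hM, hM, Prod.mk.injEq] at h
    exact hab.elim (fun ha => smul_right_injective _ ha h.1) (fun hb => smul_right_injective _ hb h.2)
  have heq : LinearMap.range M = W := Submodule.eq_of_le_of_finrank_eq hMW (by
    rw [hW, LinearMap.finrank_range_of_inj hMinj, LinearMap.finrank_range_of_inj hL])
  have himg : ∀ A : U, ∃ B : U, k.1 (A, 0) = (a • B, b • B) := fun A => by
    have : k.1 (A, 0) ∈ LinearMap.range M := heq ▸ (hmem _).2 ⟨A, rfl⟩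
    obtain ⟨B, hB⟩ := this
    exact ⟨B, hB.symm⟩
  have hreal : σ a * b = σ b * a := by
    obtain ⟨v', z, -, -, -, -, -, -, -, hn, -⟩ := X.exists_frame hv0' hv
    obtain ⟨A, hA⟩ : ∃ A, k.1 (A, 0) = M z := (hmem _).1 (hMW ⟨z, rfl⟩)
    have := HU.map_eq k (A, 0) (A, 0)
    rw [hA, hM, X.form, X.form] at this
    simp only [smul_left, smul_right, map_zero, LinearMap.zero_apply, sub_self, mul_zero] at this
    have h2 : ζ * g z z * (σ a * b - σ b * a) = 0 := by linear_combination this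
    exact sub_eq_zero.1 ((mul_eq_zero.1 h2).resolve_left (mul_ne_zero X.ne hn))
  by_cases ha : a = 0
  · obtain ⟨m, hm, em⟩ := X.sl 0 1 (-1) 0 (map_zero σ) (map_one σ) (by rw [map_neg, map_one]) (map_zero σ) (by ring)
    obtain ⟨Φ, p, q, r, s, e⟩ := X.stab_kr (K.mul_mem hm hk) (fun A => by
      obtain ⟨B, hB⟩ := himg A
      rw [mul_apply, hB, em, ha]
      simp)
    refine ⟨Φ, -r, -s, p, q, fun A B => ?_⟩
    have h := e A B
    rw [mul_apply] at h
    rw [show k.1 (A, B) = ((k.1 (A, B)).1, (k.1 (A, B)).2) from rfl, em] at h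
    simp only [zero_smul, one_smul, zero_add, add_zero, neg_smul, Prod.mk.injEq] at h
    refine Prod.ext ?_ h.1
    dsimp only
    linear_combination (norm := module) -h.2
  · have hr : σ (b / a) = b / a := by
      rw [map_div₀, div_eq_div_iff (fun h => ha (IsInvol.apply_eq_zero_iff.1 h)) ha]
      linear_combination -hreal
    obtain ⟨m, hm, em⟩ := X.sl 1 0 (-(b / a)) 1 (map_one σ) (map_zero σ) (by rw [map_neg, hr]) (map_one σ) (by ring)
    obtain ⟨Φ, p, q, r, s, e⟩ := X.stab_kr (K.mul_mem hm hk) (fun A => by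
      obtain ⟨B, hB⟩ := himg A
      rw [mul_apply, hB, em]
      simp [smul_smul, ha])
    refine ⟨Φ, p, q, r + b / a * p, s + b / a * q, fun A B => ?_⟩
    have h := e A B
    rw [mul_apply] at h
    rw [show k.1 (A, B) = ((k.1 (A, B)).1, (k.1 (A, B)).2) from rfl, em] at h
    simp only [zero_smul, one_smul, zero_add, add_zero, Prod.mk.injEq] at h
    obtain ⟨h1, h2⟩ := h
    refine Prod.ext h1 ?_
    dsimp only
    rw [h1] at h2
    linear_combination (norm := module) h2

/-- An element fixing a plane pointwise stabilises the first half. -/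
theorem stab_of_fixes {u : U} (hn : g u u ≠ 0) {k : HU H} (hk : k ∈ K) (hf : Fixes g u k) : Stab k := by
  by_contra hns
  obtain ⟨v, v', hv0, hv, hv', h1, hvu, hv'u⟩ := X.exists_perp_frame hn
  have huv := X.hg.eq_zero_symm hvu
  have huv' := X.hg.eq_zero_symm hv'u
  have h1' : g v' v = 1 := by rw [← X.symm', h1, map_one]
  have hgi := X.hg.invol
  have hu0 : u ≠ 0 := fun h => hn (by rw [h]; simp)
  obtain ⟨p1, q1, e1⟩ : ∃ P Q, k.1 (v, 0) = (P, Q) := ⟨_, _, rfl⟩
  obtain ⟨p2, q2, e2⟩ : ∃ P Q, k.1 (0, v) = (P, Q) := ⟨_, _, rfl⟩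
  have o1 := hf.perp v 0 huv (map_zero _)
  have o2 := hf.perp 0 v (map_zero _) huv
  rw [e1] at o1
  rw [e2] at o2
  simp only at o1 o2
  have hlin : ∀ a b : F, k.1 (a • v, b • v) = (a • p1 + b • p2, a • q1 + b • q2) := fun a b => by
    rw [show ((a • v, b • v) : U × U) = a • (v, 0) + b • (0, v) by simp, map_add, map_smul, map_smul, e1, e2]
    simp
  have hind : ∀ a b : F, a • q1 + b • q2 = 0 → a = 0 ∧ b = 0 := fun a b h => by
    by_contra hab
    exact hns (X.stab_of_meet hn hv0 hv hvu hk hf (a := a) (b := b) (by tauto) (by rw [hlin]; exact h))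
  have hd : ∀ {x}, g u x = 0 → x = g v' x • v + g v x • v' := fun {x} hx => by
    conv_lhs => rw [X.frame_dec hv hv' h1 hvu hv'u hn x, hx, zero_div, zero_smul, add_zero]
  set D := g v' q1 * g v q2 - g v' q2 * g v q1 with hD
  have hD0 : D ≠ 0 := fun h => by
    obtain ⟨hb, hb1⟩ := hind (g v q2) (-g v q1) (by
      rw [hd o1.2, hd o2.2]
      simp only [map_add, smul_right, hv, h1, mul_zero, zero_add, mul_one]
      match_scalars <;> (try ring1)
      linear_combination h)
    obtain ⟨hb, hb2⟩ := hind (g v' q2) (-g v' q1) (by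
      rw [hd o1.2, hd o2.2]
      simp only [map_add, smul_right, hv, hv', h1, h1', mul_zero, zero_add, add_zero, mul_one]
      match_scalars <;> (try ring1)
      linear_combination -h)
    have : q1 = 0 := by rw [hd o1.2, neg_eq_zero.1 hb1, neg_eq_zero.1 hb2]; simp
    exact one_ne_zero (hind 1 0 (by rw [this]; simp)).1
  -- the graph
  obtain ⟨A, C, B, E, hp, hq⟩ : ∃ A C B E : F,
      (∃ a b : F, k.1 (a • v, b • v) = (A • v + C • v', v)) ∧ ∃ a b : F, k.1 (a • v, b • v) = (B • v + E • v', v') := by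
    have key : ∀ a b : F, ∀ w, a • q1 + b • q2 = w →
        ∃ A C : F, ∃ a b : F, k.1 (a • v, b • v) = (A • v + C • v', w) := fun a b w hw => by
      refine ⟨g v' (a • p1 + b • p2), g v (a • p1 + b • p2), a, b, ?_⟩
      rw [hlin, hw]
      refine Prod.ext (hd ?_) rfl
      simp [smul_right, o1.1, o2.1]
    obtain ⟨A, C, h⟩ := key (g v q2 / D) (-g v q1 / D) v (by
      rw [hd o1.2, hd o2.2]
      simp only [map_add, smul_right, hv, h1, mul_zero, zero_add, mul_one]
      match_scalars <;> field_simp <;> ring)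
    obtain ⟨B, E, h'⟩ := key (-g v' q2 / D) (g v' q1 / D) v' (by
      rw [hd o1.2, hd o2.2]
      simp only [map_add, smul_right, hv, hv', h1, h1', mul_zero, zero_add, add_zero, mul_one]
      match_scalars <;> field_simp <;> ring)
    exact ⟨A, C, B, E, h, h'⟩
  obtain ⟨a1, b1, hp⟩ := hp
  obtain ⟨a2, b2, hq⟩ := hq
  have hH0 : ∀ a b c d : F, H (a • v, b • v) (c • v, d • v) = 0 := fun a b c d => by
    rw [X.form]; simp [smul_left, smul_right, hv]
  have hC : σ C = C := by
    have := HU.map_eq k (a1 • v, b1 • v) (a1 • v, b1 • v)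
    rw [hp, hH0, X.form] at this
    simp [smul_left, smul_right, hv, h1, h1', X.ne, sub_eq_zero] at this
    exact this
  have hB : σ B = B := by
    have := HU.map_eq k (a2 • v, b2 • v) (a2 • v, b2 • v)
    rw [hq, hH0, X.form] at this
    simp [smul_left, smul_right, hv', h1, h1', X.ne, sub_eq_zero] at this
    exact this
  have hE : σ A = E := by
    have := HU.map_eq k (a1 • v, b1 • v) (a2 • v, b2 • v)
    rw [hp, hq, hH0, X.form] at this
    simp [smul_left, smul_right, hv, hv', h1, h1', X.ne, sub_eq_zero] at this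
    exact this
  subst hE
  have hcomb : ∀ s t : F, k.1 ((s * a1 + t * a2) • v, (s * b1 + t * b2) • v) =
      ((s * A + t * B) • v + (s * C + t * σ A) • v', s • v + t • v') := fun s t => by
    have : (((s * a1 + t * a2) • v, (s * b1 + t * b2) • v) : U × U) =
        s • ((a1 • v, b1 • v) : U × U) + t • ((a2 • v, b2 • v) : U × U) := by simp [add_smul, smul_smul]
    rw [this, map_add, map_smul, map_smul, hp, hq]
    simp only [Prod.smul_mk, Prod.mk_add_mk, Prod.mk.injEq, and_true]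
    module
  -- eigenvectors
  obtain ⟨l, w1, w2, hl, hw1, hw2, ⟨c1, d1, k1⟩, ⟨c2, d2, k2⟩, h1u, h2u⟩ : ∃ (l : F) (w1 w2 : U), σ l ≠ l ∧ w1 ≠ 0 ∧
      w2 ≠ 0 ∧ (∃ c d : F, k.1 (c • v, d • v) = (l • w1, w1)) ∧ (∃ c d : F, k.1 (c • v, d • v) = (σ l • w2, w2)) ∧
      g w1 u = 0 ∧ g w2 u = 0 := by
    have hne : ∀ {s t : F}, t ≠ 0 → s • v + t • v' ≠ 0 := fun {s t} ht h => ht (by
      have := congrArg (g v) h
      simpa [smul_right, hv, h1] using this)
    have hperp : ∀ s t : F, g (s • v + t • v') u = 0 := fun s t => by simp [smul_left, hvu, hv'u]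
    have heig : ∀ s t l : F, s * A + t * B = l * s → s * C + t * σ A = l * t →
        ∃ c d : F, k.1 (c • v, d • v) = (l • (s • v + t • v'), s • v + t • v') := fun s t l h h' =>
      ⟨_, _, (hcomb s t).trans (by rw [h, h']; simp only [Prod.mk.injEq, and_true]; module)⟩
    have hnr : ∀ l : F, (∃ w : U, w ≠ 0 ∧ ∃ c d : F, k.1 (c • v, d • v) = (l • w, w)) → σ l ≠ l := by
      rintro l ⟨w, hw, c, d, h⟩ hl
      exact hns (X.stab_of_real hn hv0 hv hvu hk hf hw hl h)
    by_cases hC0 : C = 0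
    · have e1 := heig 1 0 A (by ring) (by rw [hC0]; ring)
      have hA := hnr A ⟨_, by simpa using hv0, e1⟩
      exact ⟨A, _, _, hA, by simpa using hv0, hne (sub_ne_zero.2 hA), e1,
        heig B (σ A - A) (σ A) (by ring) (by rw [hC0]; ring), hperp _ _, hperp _ _⟩
    · obtain ⟨l, hl⟩ := X.exists_root (t := -(A + σ A)) (m := B * C - A * σ A)
        (by rw [map_neg, map_add, hgi.invol]; ring) (by rw [map_sub, map_mul, map_mul, hgi.invol, hB, hC]; ring)
      have e1 := heig (l - σ A) C l (by linear_combination -hl) (by ring)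
      have hlA := hnr l ⟨_, hne hC0, e1⟩
      have hl' : σ l * σ l + -(A + σ A) * σ l = B * C - A * σ A := by
        have := congrArg σ hl
        simp only [map_add, map_mul, map_neg, map_sub, hgi.invol, hB, hC] at this
        linear_combination this
      exact ⟨l, _, _, hlA, hne hC0, hne hC0, e1,
        heig (σ l - σ A) C (σ l) (by linear_combination -hl') (by ring), hperp _ _, hperp _ _⟩
  have hiso : ∀ (m : F) (w : U) (c d : F), σ m ≠ m → k.1 (c • v, d • v) = (m • w, w) → g w w = 0 := by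
    intro m w c d hm h
    have := HU.map_eq k (c • v, d • v) (c • v, d • v)
    rw [h, hH0, X.form, smul_left, smul_right] at this
    have h2 : ζ * (σ m - m) * g w w = 0 := by linear_combination this
    exact (mul_eq_zero.1 h2).resolve_left (mul_ne_zero X.ne (sub_ne_zero.2 hm))
  have h11 := hiso l w1 _ _ hl k1
  have h22 := hiso (σ l) w2 _ _ (fun h => hl (by rw [hgi.invol] at h; exact h.symm)) k2
  have h12 : g w1 w2 ≠ 0 := fun h12 => by
    obtain ⟨y, hy1, hy2, hyu⟩ := X.perp_partner hw1 h11 h1u hn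
    set μ := g y w2
    have e : w2 = μ • w1 := by
      conv_lhs => rw [X.frame_dec h11 hy2 hy1 h1u hyu hn w2]
      rw [h12, X.hg.eq_zero_symm h2u]
      simp [μ]
    have h3 : k.1 ((μ * c1 - c2) • v, (μ * d1 - d2) • v) = ((μ * l - μ * σ l) • w1, 0) := by
      have : (((μ * c1 - c2) • v, (μ * d1 - d2) • v) : U × U) =
          μ • ((c1 • v, d1 • v) : U × U) - ((c2 • v, d2 • v) : U × U) := by simp [sub_smul, smul_smul]
      rw [this, map_sub, map_smul, k1, k2, e]
      simp [sub_smul, smul_smul, mul_comm]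
    refine hns (X.stab_of_meet hn hv0 hv hvu hk hf (a := μ * c1 - c2) (b := μ * d1 - d2) ?_ (by rw [h3]))
    by_contra! hab
    rw [hab.1, hab.2, zero_smul, show ((0, 0) : U × U) = 0 from rfl, map_zero] at h3
    have h4 : (μ * l - μ * σ l) • w1 = 0 := (congrArg Prod.fst h3).symm
    rw [← mul_sub, smul_eq_zero, mul_eq_zero] at h4
    have hμ : μ = 0 := (h4.resolve_right hw1).resolve_right (sub_ne_zero.2 (Ne.symm hl))
    exact hw2 (by rw [e, hμ, zero_smul])
  exact X.twist_absurd hn hv0 hv hk hl hw1 h11 h22 h12 h1u h2u k1 k2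

/-- Every element is a tensor product. -/
theorem all_kr {k : HU H} (hk : k ∈ K) : Kr k := by
  by_cases hinv : ∀ v : U, g v v = 0 → ∀ c : F, c + σ c = 0 → ∀ A : U, ∃ A' : U,
      k.1 (A', 0) = ((k.1 (A, 0)).1 + (c * g v (k.1 (A, 0)).1) • v, (k.1 (A, 0)).2 + (c * g v (k.1 (A, 0)).2) • v)
  · exact X.kr_of_invariant hk hinv
  exfalso
  push Not at hinv
  obtain ⟨v, hv, c, hc, A0, hA0⟩ := hinv
  obtain ⟨T, hT, eT⟩ := X.dia_tr hv hc
  set k' := k⁻¹ * T * k with hk'
  have hk'm : k' ∈ K := K.mul_mem (K.mul_mem (K.inv_mem hk) hT) hk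
  have ek' : ∀ Y, k.1 (k'.1 Y) = T.1 (k.1 Y) := fun Y => by
    rw [← mul_apply, ← mul_apply, hk', ← mul_assoc, mul_inv_cancel_left]
  have hns : ¬ Stab k' := fun hs => by
    refine hA0 (k'.1 (A0, 0)).1 ?_
    have e : ((k'.1 (A0, 0)).1, (0 : U)) = k'.1 (A0, 0) := Prod.ext rfl (hs A0).symm
    rw [e, ek', ← eT]
  obtain ⟨u, hu0, hu1, hu2⟩ : ∃ u : U, u ≠ 0 ∧ g v (k.1 (u, 0)).1 = 0 ∧ g v (k.1 (u, 0)).2 = 0 := by
    let L : U →ₗ[F] F × F := ((g v) ∘ₗ LinearMap.fst F U U ∘ₗ (k.1 : U × U →ₗ[F] U × U) ∘ₗ LinearMap.inl F U U).prod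
      ((g v) ∘ₗ LinearMap.snd F U U ∘ₗ (k.1 : U × U →ₗ[F] U × U) ∘ₗ LinearMap.inl F U U)
    have hni : ¬ Function.Injective L := fun h => by
      have := LinearMap.finrank_le_finrank_of_injective h
      rw [X.dim, Module.finrank_prod, Module.finrank_self] at this
      omega
    rw [injective_iff_map_eq_zero] at hni
    push Not at hni
    obtain ⟨z, hz, hz0⟩ := hni
    exact ⟨z, hz0, congrArg Prod.fst hz, congrArg Prod.snd hz⟩
  have hku : k'.1 (u, 0) = (u, 0) := k.1.injective (by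
    rw [ek', show k.1 (u, 0) = ((k.1 (u, 0)).1, (k.1 (u, 0)).2) from rfl, eT, hu1, hu2]
    simp)
  by_cases hn : g u u = 0
  · exact hns (X.stab_of_iso hu0 hn hk'm (l := 1) (by rw [hku, one_smul]))
  obtain ⟨hplane, hperp⟩ := X.plane_of_fix hn hk'm (l := 1) (by rw [hku, one_smul])
  obtain ⟨a, b, he⟩ := hplane 0 1
  rw [zero_smul, one_smul] at he
  have hb : b = 1 := by
    have := HU.map_eq k' (u, 0) (0, u)
    rw [hku, he, X.form, X.form] at this
    simp [smul_left, smul_right, hn, X.ne] at this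
    exact this
  subst hb
  have ha : σ a = a := by
    have := HU.map_eq k' (0, u) (0, u)
    rw [he, X.form, X.form] at this
    simp [smul_left, smul_right, hn, X.ne, sub_eq_zero] at this
    exact this
  obtain ⟨m, hm, em⟩ := X.sl 1 (-a) 0 1 (map_one σ) (by rw [map_neg, ha]) (map_zero σ) (map_one σ) (by ring)
  have em' : ∀ Y, m.1 Y = (Y.1 - a • Y.2, Y.2) := fun Y => by
    obtain ⟨A, B⟩ := Y
    rw [em]
    simp [sub_eq_add_neg]
  have hf : Fixes g u (m * k') := by
    refine ⟨fun α β => ?_, fun A B hA hB => ?_⟩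
    · rw [mul_apply, show ((α • u, β • u) : U × U) = α • (u, 0) + β • (0, u) by simp, map_add, map_smul, map_smul, hku,
        he, em']
      simp [smul_smul, mul_comm]
    · rw [mul_apply, em']
      simp [smul_right, (hperp A B hA hB).1, (hperp A B hA hB).2]
  refine hns fun A => ?_
  have := X.stab_of_fixes hn (K.mul_mem hm hk'm) hf A
  rwa [mul_apply, em'] at this

end Ctx

end CfsgLib.Geo.UnitTensorTwo
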