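/-
The alternative for an overgroup of a tensor product of two and three dimensions, in coordinates.
-/
import Cfsg.Agent.Lib.Geo.UnitTensorTwo.Main
import Cfsg.Agent.Lib.Geo.UnitTensor.Final

set_option autoImplicit false
set_option linter.unusedSectionVars false

namespace CfsgLib.Geo.UnitTensorTwo

open Matrix TensorLinear CfsgLib.Classical CfsgLib.Classical.Herm
open scoped Kronecker

variable {F : Type*} [Field F] {σ : F →+* F} {g : (Fin 3 → F) →ₛₗ[σ] (Fin 3 → F) →ₗ[F] F}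
  {f : (Fin 2 → F) →ₛₗ[σ] (Fin 2 → F) →ₗ[F] F} {H : (Fin 2 × Fin 3 → F) →ₛₗ[σ] (Fin 2 × Fin 3 → F) →ₗ[F] F}

/-- The Kronecker embedding of pairs. -/
def embPair (e e' : Fin 2 → F) : (Fin 3 → F) × (Fin 3 → F) →ₗ[F] (Fin 2 × Fin 3 → F) where
  toFun Y := pt e Y.1 + pt e' Y.2
  map_add' Y Z := by funext p; simp only [pt, Prod.fst_add, Prod.snd_add, Pi.add_apply]; ring
  map_smul' c Y := by
    funext p
    simp only [pt, Prod.smul_fst, Prod.smul_snd, Pi.add_apply, Pi.smul_apply, smul_eq_mul, RingHom.id_apply]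
    ring

theorem embPair_apply (e e' : Fin 2 → F) (A B : Fin 3 → F) : embPair e e' (A, B) = pt e A + pt e' B := rfl

theorem pt_comb (e e' : Fin 2 → F) (a b : F) (A : Fin 3 → F) :
    pt (a • e + b • e') A = pt e (a • A) + pt e' (b • A) := by
  funext p
  simp only [pt, Pi.add_apply, Pi.smul_apply, smul_eq_mul]
  ring

/-- A hyperbolic pair of the first factor with skew product. -/
theorem exists_skew_pair [Finite F] (hf : IsHerm f) :
    ∃ (e e' : Fin 2 → F) (ζ : F), ζ ≠ 0 ∧ ζ + σ ζ = 0 ∧ f e e = 0 ∧ f e' e' = 0 ∧ f e e' = ζ ∧ f e' e = -ζ ∧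
      ∀ v : Fin 2 → F, ∃ a b : F, v = a • e + b • e' := by
  obtain ⟨e, he0, he⟩ := hf.exists_isotropic (by rw [Module.finrank_fintype_fun_eq_card]; simp)
  obtain ⟨e₁, h1, h2⟩ := hf.exists_isotropic_partner he0 he
  obtain ⟨ζ, hζ0, hζ⟩ := hf.exists_skew
  have h1' : f e₁ e = 1 := by rw [← hf.symm, h1, map_one]
  refine ⟨e, ζ • e₁, ζ, hζ0, hζ, he, by rw [IsHerm.smul_self, h2, mul_zero], by rw [smul_right, h1, mul_one],
    by rw [smul_left, h1', mul_one, eq_neg_of_add_eq_zero_right hζ], fun v => ?_⟩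
  let L : (Fin 2 → F) →ₗ[F] F × F := (f e).prod (f e₁)
  have hsurj : Function.Surjective L := fun ⟨a, b⟩ => ⟨a • e₁ + b • e, by simp [L, h1, h1', h2, he]⟩
  have hinj : Function.Injective L := (LinearMap.injective_iff_surjective_of_finrank_eq_finrank (by
    simp [Module.finrank_prod])).2 hsurj
  exact ⟨f e₁ v, f e v / ζ, hinj (by simp [L, smul_smul, h1, h1', h2, he, hζ0])⟩

open Cfsg.Geo in
/-- The determinant of a conjugate of a reindexed matrix. -/
theorem mem_special_conj {κ ι : Type} [Fintype κ] [DecidableEq κ] [Fintype ι] [DecidableEq ι] (e : κ ≃ ι)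
    (P : GL ι F) (x : GL κ F) :
    ((glReindex e).trans (MulAut.conj P)) x ∈ specialLinear ι F ↔ (x : Matrix κ κ F).det = 1 := by
  have hr : Matrix.GeneralLinearGroup.det (glReindex e x) = Matrix.GeneralLinearGroup.det x := by
    refine Units.ext ?_
    show ((Matrix.reindexAlgEquiv F F e) (x : Matrix κ κ F)).det = _
    rw [Matrix.det_reindexAlgEquiv]
    rfl
  show MulAut.conj P (glReindex e x) ∈ _ ↔ _
  rw [specialLinear, MonoidHom.mem_ker, MulAut.conj_apply, map_mul, map_mul, hr, map_inv,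
    mul_inv_cancel_comm, Units.ext_iff]
  rfl

variable [Fintype F]

/-- An overgroup contains every special isometry or consists of Kronecker products. -/
theorem full_or_kr (hf : IsHerm f) (hg : IsHerm g) (hH : IsHerm H)
    (hpt : ∀ a b w y, H (pt a w) (pt b y) = g w y * f a b) (hbig : 3 ≤ Nat.card (fixedSub σ))
    (M : Subgroup (GL (Fin 2 × Fin 3) F))
    (hiso : ∀ x ∈ M, ∀ y z, H ((x : Matrix _ _ F) *ᵥ y) ((x : Matrix _ _ F) *ᵥ z) = H y z)
    (hbase : ∀ (a : Matrix (Fin 2) (Fin 2) F) (b : Matrix (Fin 3) (Fin 3) F),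
      (∀ u v, f (a *ᵥ u) (a *ᵥ v) = f u v) → (∀ u v, g (b *ᵥ u) (b *ᵥ v) = g u v) → a.det = 1 → b.det = 1 →
      ∃ x ∈ M, ((x : GL (Fin 2 × Fin 3) F) : Matrix _ _ F) = a ⊗ₖ b) :
    (∀ x : GL (Fin 2 × Fin 3) F, (∀ y z, H ((x : Matrix _ _ F) *ᵥ y) ((x : Matrix _ _ F) *ᵥ z) = H y z) →
      (x : Matrix (Fin 2 × Fin 3) (Fin 2 × Fin 3) F).det = 1 → x ∈ M) ∨ ∀ x ∈ M, UnitTensor.Kr x := by
  classical
  obtain ⟨e, e', ζ, hζ0, hζ, hee, he'e', hee', he'e, hdec⟩ := exists_skew_pair hf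
  let U := Fin 3 → F
  have hJs : Function.Surjective (embPair e e') := by
    rw [← LinearMap.range_eq_top, eq_top_iff]
    rintro x -
    have hx : x = ∑ p : Fin 2 × Fin 3, x p • pt (Pi.single p.1 (1 : F)) (Pi.single p.2 (1 : F)) := by
      funext y
      rw [Finset.sum_apply, Finset.sum_eq_single y]
      · simp [pt]
      · intro p _ hp
        simp only [Pi.smul_apply, pt, Pi.single_apply, smul_eq_mul]
        rcases not_and_or.1 (fun h' : y.1 = p.1 ∧ y.2 = p.2 => hp (Prod.ext h'.1.symm h'.2.symm)) with h | h <;>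
          simp [h]
      · simp
    rw [hx]
    refine Submodule.sum_mem _ fun p _ => Submodule.smul_mem _ _ ?_
    obtain ⟨a, b, hab⟩ := hdec (Pi.single p.1 1)
    exact ⟨(a • Pi.single p.2 1, b • Pi.single p.2 1), by rw [embPair_apply, hab, pt_comb]⟩
  have hJb : Function.Bijective (embPair e e') :=
    ⟨(LinearMap.injective_iff_surjective_of_finrank_eq_finrank (by
      simp [Module.finrank_prod, Module.finrank_fintype_fun_eq_card])).2 hJs, hJs⟩
  let J : (U × U) ≃ₗ[F] (Fin 2 × Fin 3 → F) := LinearEquiv.ofBijective (embPair e e') hJb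
  have hJ : ∀ A B : U, J (A, B) = pt e A + pt e' B := fun A B => rfl
  let H' : (U × U) →ₛₗ[σ] (U × U) →ₗ[F] F := (H.comp J.toLinearMap).compl₂ J.toLinearMap
  have hH' : ∀ Y Z, H' Y Z = H (J Y) (J Z) := fun _ _ => rfl
  have hHerm : IsHerm H' := ⟨hH.invol, fun x y => by rw [hH', hH', hH.symm], fun x hx => by
    have : J x = 0 := hH.nondeg _ fun y => by
      obtain ⟨z, rfl⟩ := J.surjective y
      rw [← hH']
      exact hx z
    simpa using this⟩
  have hform : ∀ a b c d : U, H' (a, b) (c, d) = ζ * (g a d - g b c) := fun a b c d => by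
    rw [hH', hJ, hJ]
    simp only [map_add, LinearMap.add_apply, hpt, hee, he'e', hee', he'e]
    ring
  -- matrices of isometries
  let ρ : HU H' →* GL (Fin 2 × Fin 3) F :=
    { toFun := fun k => ⟨LinearMap.toMatrix' (J.toLinearMap ∘ₗ k.1.toLinearMap ∘ₗ J.symm.toLinearMap),
        LinearMap.toMatrix' (J.toLinearMap ∘ₗ k.1.symm.toLinearMap ∘ₗ J.symm.toLinearMap),
        by rw [← LinearMap.toMatrix'_comp, ← LinearMap.toMatrix'_id]; congr 1; ext x; simp,
        by rw [← LinearMap.toMatrix'_comp, ← LinearMap.toMatrix'_id]; congr 1; ext x; simp⟩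
      map_one' := Units.ext (by
        show LinearMap.toMatrix' _ = 1
        rw [← LinearMap.toMatrix'_id]; congr 1; ext x; simp)
      map_mul' := fun k k' => Units.ext (by
        show LinearMap.toMatrix' _ = LinearMap.toMatrix' _ * LinearMap.toMatrix' _
        rw [← LinearMap.toMatrix'_comp]; congr 1; ext x; simp) }
  have hρ : ∀ (k : HU H') (Y : U × U),
      ((ρ k : GL (Fin 2 × Fin 3) F) : Matrix (Fin 2 × Fin 3) (Fin 2 × Fin 3) F) *ᵥ J Y = J (k.1 Y) := fun k Y => by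
    show LinearMap.toMatrix' _ *ᵥ J Y = _
    rw [LinearMap.toMatrix'_mulVec]
    simp
  have hlift : ∀ x : GL (Fin 2 × Fin 3) F, (∀ y z, H ((x : Matrix _ _ F) *ᵥ y) ((x : Matrix _ _ F) *ᵥ z) = H y z) →
      ∃ k : HU H', ρ k = x ∧ ((x : Matrix (Fin 2 × Fin 3) (Fin 2 × Fin 3) F).det = 1 → k ∈ HSU H') := by
    intro x hx
    let T : (U × U) →ₗ[F] (U × U) :=
      J.symm.toLinearMap ∘ₗ Matrix.toLin' (x : Matrix (Fin 2 × Fin 3) (Fin 2 × Fin 3) F) ∘ₗ J.toLinearMap
    have hT : ∀ Y, J (T Y) = (x : Matrix (Fin 2 × Fin 3) (Fin 2 × Fin 3) F) *ᵥ J Y := fun Y => by simp [T]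
    have hTT : ∀ Y Z, H' (T Y) (T Z) = H' Y Z := fun Y Z => by rw [hH', hH', hT, hT, hx]
    refine ⟨hHerm.ofPreserves T hTT, ?_, fun hd => ?_⟩
    · refine Units.ext (Matrix.toLin'.injective (LinearMap.ext fun y => ?_))
      obtain ⟨Y, rfl⟩ := J.surjective y
      rw [Matrix.toLin'_apply, Matrix.toLin'_apply, hρ]
      exact hT Y
    · rw [MonoidHom.mem_ker]
      ext
      show ((LinearEquiv.det (hHerm.ofPreserves T hTT : (U × U) ≃ₗ[F] (U × U)) : Fˣ) : F) = 1
      rw [LinearEquiv.coe_det, IsHerm.coe_ofPreserves]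
      have e := LinearMap.det_conj (Matrix.toLin' (x : Matrix (Fin 2 × Fin 3) (Fin 2 × Fin 3) F)) J.symm
      rw [LinearEquiv.symm_symm] at e
      exact (e.trans (LinearMap.det_toLin' _)).trans hd
  set K := M.comap ρ with hK
  have hkron : ∀ (a : Matrix (Fin 2) (Fin 2) F) (b : Matrix (Fin 3) (Fin 3) F),
      (∀ u v, f (a *ᵥ u) (a *ᵥ v) = f u v) → (∀ u v, g (b *ᵥ u) (b *ᵥ v) = g u v) → a.det = 1 → b.det = 1 →
      ∃ k ∈ K, ∀ A B : U, J ((k : HU H').1 (A, B)) = pt (a *ᵥ e) (b *ᵥ A) + pt (a *ᵥ e') (b *ᵥ B) := by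
    intro a b ha hb hda hdb
    obtain ⟨x, hxM, hx⟩ := hbase a b ha hb hda hdb
    obtain ⟨k, hk, -⟩ := hlift x (hiso x hxM)
    refine ⟨k, by rw [hK, Subgroup.mem_comap, hk]; exact hxM, fun A B => ?_⟩
    rw [← hρ, hk, hJ, hx, Matrix.mulVec_add, UnitTensor.kron_mulVec_pt, UnitTensor.kron_mulVec_pt]
  by_cases hfull : HSU H' ≤ K
  · refine Or.inl fun x hx hd => ?_
    obtain ⟨k, hk, hk'⟩ := hlift x hx
    have := hfull (hk' hd)
    rwa [hK, Subgroup.mem_comap, hk] at this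
  have hli : LinearIndependent F ![e, e'] := by
    rw [LinearIndependent.pair_iff]
    intro a b hab
    have e1 := congrArg (f e') hab
    have e2 := congrArg (f e) hab
    simp [smul_right, hee, he'e', hee', he'e, hζ0] at e1 e2
    exact ⟨e1, e2⟩
  let b2 : Module.Basis (Fin 2) F (Fin 2 → F) := basisOfLinearIndependentOfCardEqFinrank hli (by simp)
  have hb2 : (b2 : Fin 2 → Fin 2 → F) = ![e, e'] := coe_basisOfLinearIndependentOfCardEqFinrank _ _
  -- a matrix with given action on the pair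
  have hmat : ∀ a b c d : F, ∃ A : Matrix (Fin 2) (Fin 2) F, A.det = a * d - b * c ∧
      A *ᵥ e = a • e + c • e' ∧ A *ᵥ e' = b • e + d • e' := by
    intro a b c d
    refine ⟨LinearMap.toMatrix' (Matrix.toLin b2 b2 !![a, b; c, d]), ?_, ?_, ?_⟩
    · rw [LinearMap.det_toMatrix', LinearMap.det_toLin, Matrix.det_fin_two_of]
    · rw [LinearMap.toMatrix'_mulVec, show e = b2 0 by rw [hb2]; rfl, Matrix.toLin_self, Fin.sum_univ_two, hb2]
      simp
    · rw [LinearMap.toMatrix'_mulVec, show e' = b2 1 by rw [hb2]; rfl, Matrix.toLin_self, Fin.sum_univ_two, hb2]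
      simp
  have X : Ctx g H' ζ K :=
    { hg := hg
      hH := hHerm
      dim := by simp
      big := hbig
      ne := hζ0
      skew := hζ
      form := hform
      sl := fun a b c d ha hb hc hd hdet => by
        obtain ⟨A, hA, hAe, hAe'⟩ := hmat a b c d
        obtain ⟨k, hk, ek⟩ := hkron A 1 (fun u v => by
            obtain ⟨u1, u2, rfl⟩ := hdec u
            obtain ⟨v1, v2, rfl⟩ := hdec v
            simp only [Matrix.mulVec_add, Matrix.mulVec_smul, hAe, hAe', map_add, LinearMap.add_apply,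
              Herm.smul_left, Herm.smul_right, hee, he'e', hee', he'e, ha, hb, hc, hd]
            linear_combination (σ u1 * v2 * ζ - σ u2 * v1 * ζ) * hdet)
          (fun u v => by rw [Matrix.one_mulVec, Matrix.one_mulVec]) (hA.trans hdet) Matrix.det_one
        refine ⟨k, hk, fun P Q => J.injective ?_⟩
        rw [ek, Matrix.one_mulVec, Matrix.one_mulVec, hAe, hAe', pt_comb, pt_comb, hJ]
        funext p
        simp only [pt, Pi.add_apply, Pi.smul_apply, smul_eq_mul]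
        ring
      dia := fun τ hτ => by
        obtain ⟨k, hk, ek⟩ := hkron 1 (LinearMap.toMatrix' (τ.1 : U →ₗ[F] U))
          (fun u v => by rw [Matrix.one_mulVec, Matrix.one_mulVec])
          (fun u v => by rw [LinearMap.toMatrix'_mulVec, LinearMap.toMatrix'_mulVec]; exact HU.map_eq τ u v)
          Matrix.det_one (by
            rw [LinearMap.det_toMatrix', ← LinearEquiv.coe_det]
            exact congrArg Units.val (MonoidHom.mem_ker.1 hτ))
        refine ⟨k, hk, fun P Q => J.injective ?_⟩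
        rw [ek, Matrix.one_mulVec, Matrix.one_mulVec, LinearMap.toMatrix'_mulVec, LinearMap.toMatrix'_mulVec, hJ]
        rfl
      thin := hfull }
  refine Or.inr fun x hxM => ?_
  obtain ⟨k, hk, -⟩ := hlift x (hiso x hxM)
  obtain ⟨Φ, p, q, r, s, ek⟩ := X.all_kr (k := k) (by rw [hK, Subgroup.mem_comap, hk]; exact hxM)
  obtain ⟨A, -, hAe, hAe'⟩ := hmat p q r s
  set B := LinearMap.toMatrix' Φ
  have hx : (x : Matrix (Fin 2 × Fin 3) (Fin 2 × Fin 3) F) = A ⊗ₖ B := by
    refine Matrix.toLin'.injective (UnitTensor.hom_ext_pt fun v y => ?_)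
    obtain ⟨v1, v2, rfl⟩ := hdec v
    have h := hρ k (v1 • y, v2 • y)
    rw [hk, hJ, ← pt_comb, ek, hJ] at h
    rw [Matrix.toLin'_apply, Matrix.toLin'_apply, h, UnitTensor.kron_mulVec_pt, Matrix.mulVec_add,
      Matrix.mulVec_smul, Matrix.mulVec_smul, hAe, hAe', LinearMap.toMatrix'_mulVec, map_smul, map_smul]
    funext i
    simp only [pt, Pi.add_apply, Pi.smul_apply, smul_eq_mul]
    ring
  have hd : (A ⊗ₖ B).det ≠ 0 := hx ▸ ((Matrix.isUnit_iff_isUnit_det _).1 x.isUnit).ne_zero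
  rw [Matrix.det_kronecker, mul_ne_zero_iff, Fintype.card_fin, Fintype.card_fin] at hd
  exact ⟨Matrix.GeneralLinearGroup.mkOfDetNeZero A (ne_zero_pow (by norm_num) hd.1),
    Matrix.GeneralLinearGroup.mkOfDetNeZero B (ne_zero_pow (by norm_num) hd.2), hx⟩

open Cfsg.Geo in
/-- The tensor product of dimensions two and three is maximal. -/
theorem isMaximalIn_two_three {n q : ℕ} (hF : Fintype.card F = q ^ 2) (hq : 3 ≤ q) (e : Fin n ≃ Fin 2 × Fin 3)
    (P : Matrix.GeneralLinearGroup (Fin n) F) (f₁ : (Fin 2 → F) → (Fin 2 → F) → F)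
    (f₂ : (Fin 3 → F) → (Fin 3 → F) → F) (hf₁ : IsUnitaryFormPow q f₁) (hf₂ : IsUnitaryFormPow q f₂)
    (hT : IsTensorFormStructure (fun x : F => x ^ q) (Cfsg.hermForm n F q) f₁ f₂ e P) :
    IsMaximalIn (Cfsg.GU n F q ⊓ specialLinear (Fin n) F)
      (tensorProductSubgroup 2 3 e P ⊓ (Cfsg.GU n F q ⊓ specialLinear (Fin n) F)) := by
  classical
  set σ' := powHom hF
  have hinv : IsInvol σ' := powHom_isInvol hF
  have hsy₁ : ∀ v w, f₁ v w = σ' (f₁ w v) := hf₁.herm
  have hsy₂ : ∀ v w, f₂ v w = σ' (f₂ w v) := hf₂.herm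
  let f : (Fin 2 → F) →ₛₗ[σ'] (Fin 2 → F) →ₗ[F] F := LinearMap.mk₂'ₛₗ σ' (RingHom.id F) (fun u x => f₁ x u)
    (fun u u' x => by rw [hsy₁, hf₁.add_left, map_add, ← hsy₁, ← hsy₁])
    (fun s u x => by rw [hsy₁, hf₁.smul_left, map_mul, ← hsy₁, smul_eq_mul])
    (fun u x x' => hf₁.add_left x x' u)
    (fun s u x => by rw [hf₁.smul_left, RingHom.id_apply, smul_eq_mul])
  let g : (Fin 3 → F) →ₛₗ[σ'] (Fin 3 → F) →ₗ[F] F := LinearMap.mk₂'ₛₗ σ' (RingHom.id F) (fun u x => f₂ x u)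
    (fun u u' x => by rw [hsy₂, hf₂.add_left, map_add, ← hsy₂, ← hsy₂])
    (fun s u x => by rw [hsy₂, hf₂.smul_left, map_mul, ← hsy₂, smul_eq_mul])
    (fun u x x' => hf₂.add_left x x' u)
    (fun s u x => by rw [hf₂.smul_left, RingHom.id_apply, smul_eq_mul])
  have hf : IsHerm f := ⟨hinv, fun x y => (hsy₁ x y).symm, fun u hu => of_not_not fun hu0 =>
    (hf₁.nondegenerate u hu0).1.elim fun y hy => hy (hu y)⟩
  have hg : IsHerm g := ⟨hinv, fun x y => (hsy₂ x y).symm, fun u hu => of_not_not fun hu0 =>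
    (hf₂.nondegenerate u hu0).1.elim fun y hy => hy (hu y)⟩
  set G := gramMatrix f₁ ⊗ₖ gramMatrix f₂
  have hG : ∀ a b, σ' (G a b) = G b a := fun a b => by
    simp only [G, Matrix.kroneckerMap_apply, map_mul, gramMatrix]
    rw [← hsy₁, ← hsy₂]
  let H : (Fin 2 × Fin 3 → F) →ₛₗ[σ'] (Fin 2 × Fin 3 → F) →ₗ[F] F :=
    LinearMap.mk₂'ₛₗ σ' (RingHom.id F) (fun u x => formOfGram σ' G x u)
      (fun u u' x => by simp only [formOfGram, Pi.add_apply, map_add, mul_add, Finset.sum_add_distrib])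
      (fun s u x => by
        simp only [formOfGram, Pi.smul_apply, smul_eq_mul, map_mul, Finset.mul_sum]
        exact Finset.sum_congr rfl fun a _ => Finset.sum_congr rfl fun b _ => by ring)
      (fun u x x' => by simp only [formOfGram, Pi.add_apply, add_mul, Finset.sum_add_distrib])
      (fun s u x => by
        simp only [formOfGram, Pi.smul_apply, smul_eq_mul, RingHom.id_apply, Finset.mul_sum]
        exact Finset.sum_congr rfl fun a _ => Finset.sum_congr rfl fun b _ => by ring)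
  obtain ⟨c, hc0, hc⟩ := hT
  have hcH : ∀ u x, Cfsg.hermForm n F q ((P : Matrix (Fin n) (Fin n) F) *ᵥ (x ∘ e))
      ((P : Matrix (Fin n) (Fin n) F) *ᵥ (u ∘ e)) = c * H u x := fun u x => hc x u
  have hsurj : ∀ y : Fin n → F, ∃ x : Fin 2 × Fin 3 → F, (P : Matrix (Fin n) (Fin n) F) *ᵥ (x ∘ e) = y :=
    fun y => ⟨(((P⁻¹ : GL (Fin n) F) : Matrix (Fin n) (Fin n) F) *ᵥ y) ∘ e.symm, by
      rw [Function.comp_assoc, Equiv.symm_comp_self, Function.comp_id, Matrix.mulVec_mulVec, Units.mul_inv,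
        Matrix.one_mulVec]⟩
  have hH : IsHerm H := ⟨hinv, fun u x => by
      show σ' (formOfGram σ' G x u) = formOfGram σ' G u x
      simp only [formOfGram, map_sum, map_mul, hinv.invol, hG]
      rw [Finset.sum_comm]
      exact Finset.sum_congr rfl fun a _ => Finset.sum_congr rfl fun b _ => by ring,
    fun u hu => by
      have hz : (P : Matrix (Fin n) (Fin n) F) *ᵥ (u ∘ e) = 0 := (hermStd_isHerm hF).nondeg _ fun y => by
        obtain ⟨x, rfl⟩ := hsurj y
        rw [hermStd_apply, hcH, hu x, mul_zero]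
      have h0 := Matrix.mulVec_injective_iff_isUnit.2 P.isUnit (hz.trans (Matrix.mulVec_zero _).symm)
      funext p
      simpa using congrFun h0 (e.symm p)⟩
  have hr₁ : ∀ v x y, f₁ v (x + y) = f₁ v x + f₁ v y := fun v x y => by
    rw [hsy₁, hf₁.add_left, map_add, ← hsy₁, ← hsy₁]
  have hr₂ : ∀ v x y, f₂ v (x + y) = f₂ v x + f₂ v y := fun v x y => by
    rw [hsy₂, hf₂.add_left, map_add, ← hsy₂, ← hsy₂]
  have hs₁ : ∀ (s : F) v x, f₁ v (s • x) = σ' s * f₁ v x := fun s v x => by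
    rw [hsy₁, hf₁.smul_left, map_mul, ← hsy₁]
  have hs₂ : ∀ (s : F) v x, f₂ v (s • x) = σ' s * f₂ v x := fun s v x => by
    rw [hsy₂, hf₂.smul_left, map_mul, ← hsy₂]
  have hpt : ∀ a b w y, H (pt a w) (pt b y) = g w y * f a b := fun a b w y => by
    show formOfGram σ' G (pt b y) (pt a w) = f₂ y w * f₁ b a
    rw [show formOfGram σ' G (pt b y) (pt a w) = _ from
      formOfGram_kronecker σ' (map_mul σ') _ _ b a y w,
      formOfGram_gram σ' f₁ hf₁.add_left hf₁.smul_left hr₁ hs₁,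
      formOfGram_gram σ' f₂ hf₂.add_left hf₂.smul_left hr₂ hs₂, mul_comm]
  have htens : ∀ a w z, H (pt a w) z = f a (UnitTensor.cg (Fin 2) g w *ᵥ z) := fun a w z => by
    exact LinearMap.congr_fun (UnitTensor.hom_ext_pt (L := H (pt a w))
      (L' := (f a).comp (Matrix.toLin' (UnitTensor.cg (Fin 2) g w))) fun b y => by
      rw [hpt, LinearMap.comp_apply, Matrix.toLin'_apply, UnitTensor.cg_pt, map_smul, smul_eq_mul]) z
  let Ψ : GL (Fin 2 × Fin 3) F ≃* GL (Fin n) F := (glReindex e.symm).trans (MulAut.conj P)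
  have hmemK : ∀ x, Ψ x ∈ tensorProductSubgroup 2 3 e P ↔ UnitTensor.Kr x := by
    intro x
    have hK : tensorProductSubgroup 2 3 e P = (kroneckerSubgroup 2 3 F).map Ψ.toMonoidHom := by
      rw [tensorProductSubgroup, Subgroup.map_map]
      rfl
    rw [hK]
    constructor
    · rintro ⟨y, hy, e'⟩
      rw [← Ψ.injective e']
      exact hy
    · exact fun hx => ⟨x, hx, rfl⟩
  have hdet : ∀ x : GL (Fin 2 × Fin 3) F, Ψ x ∈ specialLinear (Fin n) F ↔
      (x : Matrix (Fin 2 × Fin 3) (Fin 2 × Fin 3) F).det = 1 := fun x => mem_special_conj e.symm P x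
  have hact : ∀ (x : GL (Fin 2 × Fin 3) F) (y : Fin 2 × Fin 3 → F),
      ((Ψ x : GL (Fin n) F) : Matrix (Fin n) (Fin n) F) *ᵥ ((P : Matrix (Fin n) (Fin n) F) *ᵥ (y ∘ e)) =
        (P : Matrix (Fin n) (Fin n) F) *ᵥ (((x : Matrix (Fin 2 × Fin 3) (Fin 2 × Fin 3) F) *ᵥ y) ∘ e) := by
    intro x y
    show ((P * glReindex e.symm x * P⁻¹ : GL (Fin n) F) : Matrix (Fin n) (Fin n) F) *ᵥ _ = _
    rw [Units.val_mul, Units.val_mul, Matrix.mulVec_mulVec, Matrix.mul_assoc, Units.inv_mul, Matrix.mul_one,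
      ← Matrix.mulVec_mulVec]
    congr 1
    show (Matrix.reindex e.symm e.symm) (x : Matrix (Fin 2 × Fin 3) (Fin 2 × Fin 3) F) *ᵥ (y ∘ e) = _
    rw [Matrix.reindex_apply, Equiv.symm_symm, Matrix.submatrix_mulVec_equiv, Function.comp_assoc,
      Equiv.self_comp_symm, Function.comp_id]
  have hGU : ∀ x : GL (Fin 2 × Fin 3) F, Ψ x ∈ Cfsg.GU n F q ↔
      ∀ y z, H ((x : Matrix _ _ F) *ᵥ y) ((x : Matrix _ _ F) *ᵥ z) = H y z := by
    intro x
    refine ⟨fun hx y z => mul_left_cancel₀ hc0 ?_, fun hx u v => ?_⟩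
    · rw [← hcH, ← hcH, ← hact, ← hact]
      exact hx _ _
    · obtain ⟨z, rfl⟩ := hsurj u
      obtain ⟨y, rfl⟩ := hsurj v
      show Cfsg.hermForm n F q (((Ψ x : GL (Fin n) F) : Matrix (Fin n) (Fin n) F) *ᵥ _)
        (((Ψ x : GL (Fin n) F) : Matrix (Fin n) (Fin n) F) *ᵥ _) = _
      rw [hact, hact, hcH, hcH, hx]
  refine ⟨lt_of_le_of_ne inf_le_right fun heq => ?_, fun M hHM hMK => ?_⟩
  · obtain ⟨x, hx, hxd, hxk⟩ := UnitTensor.exists_not_kr hf hg hH htens (by simp) (by simp)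
    exact hxk ((hmemK x).1 (heq.ge ⟨(hGU x).2 hx, (hdet x).2 hxd⟩).1)
  rcases full_or_kr hf hg hH hpt (by rw [card_fixed_powHom]; exact hq) (M.comap Ψ.toMonoidHom)
    (fun x hx => (hGU x).1 (hMK hx).1)
    (fun a b ha hb hda hdb => by
      let y : GL (Fin 2 × Fin 3) F := Matrix.GeneralLinearGroup.mkOfDetNeZero (a ⊗ₖ b) (by
        rw [Matrix.det_kronecker, hda, hdb, one_pow, one_pow, mul_one]; exact one_ne_zero)
      refine ⟨y, Subgroup.mem_comap.2 (hHM ⟨(hmemK y).2 ⟨Matrix.GeneralLinearGroup.mkOfDetNeZero a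
        (by rw [hda]; exact one_ne_zero), Matrix.GeneralLinearGroup.mkOfDetNeZero b
        (by rw [hdb]; exact one_ne_zero), rfl⟩, (hGU y).2 fun u v => ?_, (hdet y).2 ?_⟩), rfl⟩
      · show H ((a ⊗ₖ b) *ᵥ u) ((a ⊗ₖ b) *ᵥ v) = H u v
        exact UnitTensor.form_ext_pt (L := (H.comp (Matrix.toLin' (a ⊗ₖ b))).compl₂ (Matrix.toLin' (a ⊗ₖ b))) (L' := H)
          (fun a' b' w y => by
            simp only [LinearMap.compl₂_apply, LinearMap.comp_apply, Matrix.toLin'_apply, UnitTensor.kron_mulVec_pt,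
              hpt, ha, hb]) u v
      · show (a ⊗ₖ b).det = 1
        rw [Matrix.det_kronecker, hda, hdb, one_pow, one_pow, mul_one]) with h | h
  · refine Or.inr (le_antisymm hMK fun x hx => ?_)
    obtain ⟨x, rfl⟩ := Ψ.surjective x
    exact h x ((hGU x).1 hx.1) ((hdet x).1 hx.2)
  · refine Or.inl (le_antisymm (le_inf (fun x hx => ?_) hMK) hHM)
    obtain ⟨x, rfl⟩ := Ψ.surjective x
    exact (hmemK x).2 (h x hx)

end CfsgLib.Geo.UnitTensorTwo
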